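import Groth.Agent.HilbD.K536.AlgUp
import Mathlib.FieldTheory.IsAlgClosed.AlgebraicClosure
import Mathlib.LinearAlgebra.Lagrange

/-!
# Lower bound: `d` independent generic points of a one-dimensional algebra
-/

set_option autoImplicit false

universe u

namespace K536.AlgLow

open TensorProduct Module K536.Form K536.Rk AlgebraicIndependent

section Rank

variable {k K : Type u} [Field k] [Field K] [Algebra k K]

lemma rk_le_of_trdeg_le {F : IntermediateField k K} {n : ℕ} (h : Algebra.trdeg k F ≤ n) :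
    rk k (F : Set K) ≤ n := by
  have h1 : Algebra.trdeg k F.val.range ≤ n := by
    have e : F ≃ₐ[k] F.val.range := AlgEquiv.ofInjective F.val F.val.toRingHom.injective
    rwa [← e.trdeg_eq]
  have h2 := rk_range_le F.val h1
  have h3 : Set.range F.val = (F : Set K) := by ext x; simp
  rwa [h3] at h2

/-- `d` algebraically independent elements which are algebraic over `F`. -/
theorem le_trdeg {F : IntermediateField k K} {d : ℕ} {t : Fin d → K}
    (ht : AlgebraicIndependent k t) (hF : ∀ i, IsAlgebraic F (t i)) :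
    (d : Cardinal.{u}) ≤ Algebra.trdeg k F := by
  by_contra hcon
  rw [not_le] at hcon
  obtain ⟨m, hm⟩ := Cardinal.lt_aleph0.1 (hcon.trans Cardinal.natCast_lt_aleph0)
  rw [hm] at hcon
  have hmd : m < d := by exact_mod_cast hcon
  have h1 := rk_le_of_trdeg_le hm.le
  have h2 : rk k (Set.range t) ≤ rk k (F : Set K) := by
    rw [rk, rk, ← Matroid.eRk_closure_eq _ (F : Set K)]
    apply Matroid.eRk_mono
    rintro _ ⟨i, rfl⟩
    rw [matroid_closure_eq]
    change t i ∈ Subalgebra.algebraicClosure (Algebra.adjoin k (F : Set K)) K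
    rw [Subalgebra.mem_algebraicClosure]
    have h3 : Algebra.adjoin k (F : Set K) = F.toSubalgebra := Algebra.adjoin_eq F.toSubalgebra
    rw [h3]
    exact hF i
  have h3 : rk k (Set.range t) = d := by
    have h4 : (matroid k K).Indep (Set.range t) := matroid_indep_iff.2 ht.to_subtype_range
    rw [rk, h4.eRk_eq_encard, ← Set.image_univ, ht.injective.encard_image, Set.encard_univ]
    simp
  rw [h3] at h2
  have h5 : (d : ℕ∞) ≤ m := h2.trans h1
  have h6 : d ≤ m := by exact_mod_cast h5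
  omega

end Rank

variable {k A : Type u} [Field k] [CommRing A] [Algebra k A]

/-- Extension of `t ↦ s` to a one-dimensional domain. -/
theorem exists_hom {K : Type u} [Field K] [IsAlgClosed K] [Algebra k K] (P : Ideal A) [P.IsPrime]
    (t : A) (ht : Transcendental k (Ideal.Quotient.mk P t)) (htr : Algebra.trdeg k (A ⧸ P) ≤ 1)
    (s : K) (hs : Transcendental k s) : ∃ c : A →ₐ[k] K, c t = s := by
  have hx : AlgebraicIndependent k (fun _ : Unit => (Ideal.Quotient.mk P t : A ⧸ P)) :=
    algebraicIndependent_unique_type_iff.2 ht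
  have hy : AlgebraicIndependent k (fun _ : Unit => s) :=
    algebraicIndependent_unique_type_iff.2 hs
  have hb : IsTranscendenceBasis k (fun _ : Unit => (Ideal.Quotient.mk P t : A ⧸ P)) :=
    hx.isTranscendenceBasis_of_lift_trdeg_le_of_finite (by simpa using htr)
  have halg := hb.isAlgebraic
  let R := Algebra.adjoin k (Set.range (fun _ : Unit => (Ideal.Quotient.mk P t : A ⧸ P)))
  let φ : R →ₐ[k] K := (MvPolynomial.aeval (fun _ : Unit => s)).comp (hx.aevalEquiv.symm : R →ₐ[k] _)
  have hφ : Function.Injective φ :=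
    (algebraicIndependent_iff_injective_aeval.1 hy).comp hx.aevalEquiv.symm.injective
  let _ : Algebra R K := φ.toRingHom.toAlgebra
  have : IsScalarTower k R K := IsScalarTower.of_algebraMap_eq fun r => (φ.commutes r).symm
  have hfs : FaithfulSMul R K := (faithfulSMul_iff_algebraMap_injective _ _).2 hφ
  have hfs' : FaithfulSMul R (A ⧸ P) := (faithfulSMul_iff_algebraMap_injective _ _).2
    Subtype.val_injective
  have : Algebra.IsAlgebraic R (A ⧸ P) := halg
  let ψ : (A ⧸ P) →ₐ[R] K := IsAlgClosed.lift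
  refine ⟨(ψ.restrictScalars k).comp (Ideal.Quotient.mkₐ k P), ?_⟩
  have h1 : (Ideal.Quotient.mk P t : A ⧸ P) = algebraMap R (A ⧸ P)
      (hx.aevalEquiv (MvPolynomial.X ())) :=
    ((hx.algebraMap_aevalEquiv (MvPolynomial.X ())).trans (MvPolynomial.aeval_X _ _)).symm
  change ψ (Ideal.Quotient.mk P t) = s
  rw [h1, AlgHom.commutes]
  change MvPolynomial.aeval _ (hx.aevalEquiv.symm (hx.aevalEquiv _)) = s
  rw [AlgEquiv.symm_apply_apply, MvPolynomial.aeval_X]

section Main

variable {K : Type u} [Field K] [Algebra k K] {d : ℕ} (c : Fin d → (A →ₐ[k] K))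

/-- The product of the points. -/
noncomputable def evs : (K ⊗[k] A) →ₐ[K] (Fin d → K) := AlgHom.pi fun i => ev (c i)

lemma evs_apply (x : K ⊗[k] A) (i : Fin d) : evs c x i = ev (c i) x := rfl

lemma evs_surjective (t : A) (ht : Function.Injective fun i => c i t) :
    Function.Surjective (evs c) := by
  classical
  intro a
  refine ⟨Polynomial.aeval ((1 : K) ⊗ₜ[k] t) (Lagrange.interpolate Finset.univ (fun i => c i t) a), ?_⟩
  funext i
  rw [evs_apply, ← Polynomial.aeval_algHom_apply, ev_tmul, one_mul, Polynomial.coe_aeval_eq_eval]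
  exact Lagrange.eval_interpolate_at_node _ (fun x _ y _ h => ht h) (Finset.mem_univ i)

/-- The ideal of `d` points. -/
noncomputable def JJ : Ideal (K ⊗[k] A) := RingHom.ker (evs c)

lemma finrank_JJ (t : A) (ht : Function.Injective fun i => c i t) :
    Module.Finite K ((K ⊗[k] A) ⧸ JJ c) ∧ finrank K ((K ⊗[k] A) ⧸ JJ c) = d := by
  have e : ((K ⊗[k] A) ⧸ JJ c) ≃ₐ[K] (Fin d → K) :=
    Ideal.quotientKerAlgEquivOfSurjective (evs_surjective c t ht)
  refine ⟨Module.Finite.equiv e.toLinearEquiv.symm, ?_⟩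
  rw [e.toLinearEquiv.finrank_eq, finrank_fin_fun]

/-- Fields of definition of the ideal of `d` points contain the coordinates up to algebraic
extension. -/
lemma exists_poly (t : A) (ht : Function.Injective fun i => c i t) {L : Type u} [Field L]
    [Algebra k L] (φ : L →ₐ[k] K) (J₀ : Ideal (L ⊗[k] A))
    (hJ₀ : J₀.map (K221.AffPt.bm A φ) = JJ c) (i : Fin d) :
    ∃ p : Polynomial L, p ≠ 0 ∧ p.eval₂ φ.toRingHom (c i t) = 0 := by
  have hfin : Module.Finite L ((L ⊗[k] A) ⧸ J₀) := by
    obtain ⟨h1, h2⟩ := K221.AffPt.finite_finrank_of_isPushout _ _ (K221.AffPt.isPushout_zpi φ J₀)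
    apply h1.2
    rw [hJ₀]
    exact (finrank_JJ c t ht).1
  obtain ⟨p, hp, hp'⟩ := Algebra.IsIntegral.isIntegral (R := L)
    (Ideal.Quotient.mk J₀ ((1 : L) ⊗ₜ[k] t))
  refine ⟨p, hp.ne_zero, ?_⟩
  have h1 : Polynomial.aeval ((1 : L) ⊗ₜ[k] t) p ∈ J₀ := by
    rw [← Ideal.Quotient.eq_zero_iff_mem, ← Ideal.Quotient.mkₐ_eq_mk L,
      ← Polynomial.aeval_algHom_apply]
    exact hp'
  have h2 : K221.AffPt.bm A φ (Polynomial.aeval ((1 : L) ⊗ₜ[k] t) p) ∈ JJ c := by
    rw [← hJ₀]; exact Ideal.mem_map_of_mem _ h1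
  have h3 : (ev (c i) : (K ⊗[k] A) →+* K)
      (K221.AffPt.bm A φ (Polynomial.aeval ((1 : L) ⊗ₜ[k] t) p)) = 0 := by
    have h4 : evs c (K221.AffPt.bm A φ (Polynomial.aeval ((1 : L) ⊗ₜ[k] t) p)) = 0 := h2
    exact congrFun h4 i
  rw [Polynomial.aeval_def, Polynomial.hom_eval₂, Polynomial.hom_eval₂] at h3
  have h5 : (ev (c i) : (K ⊗[k] A) →+* K).comp ((K221.AffPt.bm A φ).comp
      (algebraMap L (L ⊗[k] A))) = φ.toRingHom := by
    ext x
    change ev (c i) (K221.AffPt.bm A φ (x ⊗ₜ[k] 1)) = φ x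
    have : K221.AffPt.bm A φ (x ⊗ₜ[k] (1 : A)) = φ x ⊗ₜ[k] (1 : A) := by
      change Algebra.TensorProduct.map φ (AlgHom.id k A) _ = _
      rw [Algebra.TensorProduct.map_tmul]; rfl
    rw [this, ev_tmul, map_one, mul_one]
  have h6 : (ev (c i) : (K ⊗[k] A) →+* K) (K221.AffPt.bm A φ ((1 : L) ⊗ₜ[k] t)) = c i t := by
    change ev (c i) (K221.AffPt.bm A φ ((1 : L) ⊗ₜ[k] t)) = c i t
    have : K221.AffPt.bm A φ ((1 : L) ⊗ₜ[k] t) = (1 : K) ⊗ₜ[k] t := by
      change Algebra.TensorProduct.map φ (AlgHom.id k A) _ = _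
      rw [Algebra.TensorProduct.map_tmul, map_one]; rfl
    rw [this, ev_tmul, one_mul]
  rw [h5, h6] at h3
  exact h3

lemma isAlgebraic_coord (t : A) (ht : Function.Injective fun i => c i t)
    {F : IntermediateField k K} (hF : K221.FldPt.DefOver F (JJ c)) (i : Fin d) :
    IsAlgebraic F (c i t) := by
  obtain ⟨J₀, hJ₀⟩ := hF
  obtain ⟨p, hp, hp'⟩ := exists_poly c t ht F.val J₀ hJ₀ i
  exact ⟨p, hp, hp'⟩

end Main

/-- **Lower bound.** -/
theorem exists_ideal (P : Ideal A) [P.IsPrime] (t : A)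
    (ht : Transcendental k (Ideal.Quotient.mk P t)) (htr : Algebra.trdeg k (A ⧸ P) ≤ 1) (d : ℕ) :
    ∃ (K : Type u) (_ : Field K) (_ : Algebra k K) (J : Ideal (K ⊗[k] A)),
      Module.Finite K ((K ⊗[k] A) ⧸ J) ∧ finrank K ((K ⊗[k] A) ⧸ J) = d ∧
      ∀ F : IntermediateField k K, K221.FldPt.DefOver F J → (d : Cardinal.{u}) ≤ Algebra.trdeg k F := by
  let R₀ := MvPolynomial (Fin d) k
  let K := AlgebraicClosure (FractionRing R₀)
  let s : Fin d → K := fun i => algebraMap R₀ K (MvPolynomial.X i)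
  have hinj : Function.Injective (algebraMap R₀ K) := by
    rw [IsScalarTower.algebraMap_eq R₀ (FractionRing R₀) K]
    exact (algebraMap (FractionRing R₀) K).injective.comp (IsFractionRing.injective R₀ _)
  have hs : AlgebraicIndependent k s :=
    (MvPolynomial.algebraicIndependent_X (Fin d) k).map' (f := IsScalarTower.toAlgHom k R₀ K) hinj
  have hst : ∀ i, Transcendental k (s i) := fun i => hs.transcendental i
  choose c hc using fun i => exists_hom (K := K) P t ht htr (s i) (hst i)
  have hci : Function.Injective fun i => c i t := by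
    have : (fun i => c i t) = s := funext hc
    rw [this]; exact hs.injective
  obtain ⟨h1, h2⟩ := finrank_JJ c t hci
  refine ⟨K, inferInstance, inferInstance, JJ c, h1, h2, fun F hF => ?_⟩
  apply le_trdeg hs
  intro i
  rw [← hc i]
  exact isAlgebraic_coord c t hci hF i

end K536.AlgLow
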