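import Groth.Agent.HilbD.K536.Global
import Groth.Agent.HilbD.K221.FldPt
import Groth.Agent.Flat2F.TrdegDim
import Mathlib.RingTheory.KrullDimension.NonZeroDivisors

/-!
# Fields of definition of ideals of finite colength on a curve on a smooth surface: final form
-/

set_option autoImplicit false

universe u

namespace K536.AlgUp

open TensorProduct K536.DefOver K536.DefOver.CoeffAct Module K536.Form K536.Local K536.Rk K536.Global

variable {k K A : Type u} [Field k] [Field K] [Algebra k K] [CommRing A] [Algebra k A]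

/-- Elements with coefficients in `F` come from `F ⊗ A`. -/
lemma mem_range_bm {F : IntermediateField k K} {x : K ⊗[k] A} (hx : (TA k K A).Rat F x) :
    ∃ y : F ⊗[k] A, K221.AffPt.bm A F.val y = x := by
  obtain ⟨ρ, hρ1, hρ2, hρ3⟩ := exists_proj F
  have hx' : x = (TA k K A).act ρ x := by
    have := hx ρ hρ1 1
    rw [one_smul, hρ3, one_smul] at this
    exact this.symm
  rw [hx']
  clear hx hx'
  induction x using TensorProduct.induction_on with
  | zero => exact ⟨0, by rw [map_zero, map_zero]⟩
  | add x z hx hz =>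
    obtain ⟨a, ha⟩ := hx
    obtain ⟨b, hb⟩ := hz
    exact ⟨a + b, by rw [map_add, ha, hb, map_add]⟩
  | tmul e b =>
    rw [TA_act_tmul]
    exact ⟨(⟨ρ e, hρ2 e⟩ : F) ⊗ₜ[k] b, rfl⟩

/-- The two notions of field of definition. -/
lemma defOver_of_def {F : IntermediateField k K} {J : Ideal (K ⊗[k] A)}
    (h : (TA k K A).Def F (J.restrictScalars K)) : K221.FldPt.DefOver F J := by
  refine ⟨J.comap (K221.AffPt.bm A F.val), le_antisymm Ideal.map_comap_le ?_⟩
  intro x hx
  have h1 := h.le_span hx
  have h2 : Submodule.span K {w | w ∈ J.restrictScalars K ∧ (TA k K A).Rat F w} ≤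
      (Ideal.map (K221.AffPt.bm A F.val) (J.comap (K221.AffPt.bm A F.val))).restrictScalars K := by
    rw [Submodule.span_le]
    rintro w ⟨hw1, hw2⟩
    obtain ⟨y, rfl⟩ := mem_range_bm hw2
    exact Ideal.mem_map_of_mem _ hw1
  exact h2 h1

/-- Two local parameters on a quotient of a smooth algebra of relative dimension two. -/
theorem exists_gen_of_smooth {D : Type u} [CommRing D] [Algebra k D]
    (hsm : RingHom.Locally (RingHom.IsStandardSmoothOfRelativeDimension 2) (algebraMap k D))
    (π : D →ₐ[k] A) (hπ : Function.Surjective π) (c : A →ₐ[k] K) :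
    ∃ b₁ b₂ : A, ∀ x : K ⊗[k] A, ∃ a b e : K,
      x - (a • 1 + b • δ c b₁ + e • δ c b₂) ∈ mm c ^ 2 := by
  let _ : Algebra D K := (c.comp π).toRingHom.toAlgebra
  have : IsScalarTower k D K := IsScalarTower.of_algebraMap_eq fun r =>
    ((c.comp π).commutes r).symm
  obtain ⟨s, hs, hs'⟩ := hsm
  obtain ⟨t, ht, ht0⟩ : ∃ t ∈ s, algebraMap D K t ≠ 0 := by
    by_contra hcon
    push Not at hcon
    have h1 : Ideal.span s ≤ RingHom.ker (algebraMap D K) := Ideal.span_le.2 hcon
    rw [hs] at h1
    have h2 : (1 : D) ∈ RingHom.ker (algebraMap D K) := h1 trivial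
    rw [RingHom.mem_ker, map_one] at h2
    exact one_ne_zero h2
  have h3 : Algebra.IsStandardSmoothOfRelativeDimension 2 k (Localization.Away t) := by
    rw [← RingHom.isStandardSmoothOfRelativeDimension_algebraMap]
    rw [IsScalarTower.algebraMap_eq k D (Localization.Away t)]
    exact hs' t ht
  obtain ⟨β, hβ⟩ := Groth.Agent.Lefpen.H718.JacRank.exists_forms (F := K) 2 t ht0 h3
  exact exists_gen π hπ c (fun d => rfl) β hβ

/-- Points of one-dimensional algebras of finite type. -/
theorem rk_point_le [Algebra.FiniteType k A] (hA : ringKrullDim A ≤ 1) (c : A →ₐ[k] K) :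
    rk k (Set.range c) ≤ 1 := by
  have hp : (RingHom.ker c).IsPrime := RingHom.ker_isPrime _
  have h1 := Groth.Agent.Flat2F.TrdegDim.trdeg_quotient_le (K := k) (F := A) (RingHom.ker c) 1
    (by exact_mod_cast hA)
  have e : (A ⧸ RingHom.ker c) ≃ₐ[k] c.range := Ideal.quotientKerEquivRange c
  rw [e.trdeg_eq] at h1
  exact_mod_cast rk_range_le c h1

/-- A proper quotient of a two-dimensional domain is at most one-dimensional. -/
theorem dim_le_one {D : Type u} [CommRing D] [IsDomain D] [Algebra k D]
    (hdim : ringKrullDim D ≤ 2) (π : D →ₐ[k] A) (hπ : Function.Surjective π)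
    (hker : RingHom.ker π ≠ ⊥) : ringKrullDim A ≤ 1 := by
  obtain ⟨a, ha, ha0⟩ := Submodule.exists_mem_ne_zero_of_ne_bot hker
  have h1 := ringKrullDim_quotient_succ_le_of_nonZeroDivisor (mem_nonZeroDivisors_of_ne_zero ha0)
  have h2 : ringKrullDim A ≤ ringKrullDim (D ⧸ Ideal.span {a}) := by
    have h3 : ∀ x ∈ Ideal.span {a}, π x = 0 := by
      intro x hx
      have : Ideal.span {a} ≤ RingHom.ker π := by
        rw [Ideal.span_le, Set.singleton_subset_iff]; exact ha
      exact this hx
    exact ringKrullDim_le_of_surjective (Ideal.Quotient.lift (Ideal.span {a}) π.toRingHom h3)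
      (Ideal.Quotient.lift_surjective_of_surjective _ _ hπ)
  have h4 := (add_le_add_left h2 1).trans (h1.trans hdim)
  have h5 : (2 : WithBot ℕ∞) = 1 + 1 := by norm_num
  rw [h5] at h4
  exact ENat.WithBot.add_le_add_one_right_iff.1 h4

/-- **The bound.** -/
theorem exists_defOver [IsAlgClosed K] {D : Type u} [CommRing D] [IsDomain D] [Algebra k D]
    [Algebra.FiniteType k D] (hdim : ringKrullDim D ≤ 2)
    (hsm : RingHom.Locally (RingHom.IsStandardSmoothOfRelativeDimension 2) (algebraMap k D))
    (π : D →ₐ[k] A) (hπ : Function.Surjective π) (hker : RingHom.ker π ≠ ⊥)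
    (J : Ideal (K ⊗[k] A)) [Module.Finite K ((K ⊗[k] A) ⧸ J)] :
    ∃ F : IntermediateField k K, K221.FldPt.DefOver F J ∧
      Algebra.trdeg k F ≤ finrank K ((K ⊗[k] A) ⧸ J) := by
  have hft : Algebra.FiniteType k A := Algebra.FiniteType.of_surjective π hπ
  have hA : ringKrullDim A ≤ 1 := dim_le_one hdim π hπ hker
  obtain ⟨F, hF1, hF2⟩ := exists_def_global J (fun c => rk_point_le hA c)
    (fun c _ => exists_gen_of_smooth hsm π hπ c)
  exact ⟨F, defOver_of_def hF1, trdeg_le hF2⟩

end K536.AlgUp
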