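import Groth.Agent.HilbD.K536.DefOver

/-!
# Fields of definition of punctual ideals of `K[x, y]` (Briançon's bound)

An ideal `J ≠ K[x, y]` of finite colength `m` containing powers of `x` and `y` is defined over
`k(S)` for a set `S` of at most `m - 1` elements of `K`.
-/

set_option autoImplicit false

namespace K536.Brian

open Polynomial K536.DefOver K536.DefOver.CoeffAct Module

variable {k K : Type*} [Field k] [Field K] [Algebra k K]

section cmap

variable {R : Type*} [CommRing R] [Algebra k R]

/-- Coefficientwise application of a `k`-linear map. -/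
noncomputable def cmap (g : R →ₗ[k] R) : R[X] →ₗ[k] R[X] :=
  Polynomial.lsum (R := k) (A := R) (M := R[X])
    (fun n => ((Polynomial.monomial n).restrictScalars k) ∘ₗ g)

lemma cmap_monomial (g : R →ₗ[k] R) (n : ℕ) (a : R) :
    cmap g (monomial n a) = monomial n (g a) := by
  simp [cmap, Polynomial.lsum, Polynomial.sum_monomial_index]

lemma cmap_coeff (g : R →ₗ[k] R) (p : R[X]) (n : ℕ) : (cmap g p).coeff n = g (p.coeff n) := by
  induction p using Polynomial.induction_on' with
  | add p q hp hq => rw [map_add, coeff_add, hp, hq, coeff_add, map_add]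
  | monomial m a =>
    rw [cmap_monomial, coeff_monomial, coeff_monomial]
    split_ifs <;> simp

lemma cmap_X_mul (g : R →ₗ[k] R) (p : R[X]) : cmap g (X * p) = X * cmap g p := by
  ext n
  rw [cmap_coeff]
  cases n with
  | zero => simp
  | succ n => rw [coeff_X_mul, coeff_X_mul, cmap_coeff]

lemma cmap_X_pow_mul (g : R →ₗ[k] R) (p : R[X]) (b : ℕ) :
    cmap g (X ^ b * p) = X ^ b * cmap g p := by
  induction b with
  | zero => simp
  | succ b ih => rw [pow_succ', mul_assoc, cmap_X_mul, ih, mul_assoc]

end cmap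

/-- The action on `K[x][y]`. -/
noncomputable def act (μ : K →ₗ[k] K) : K[X][X] →ₗ[k] K[X][X] := cmap (cmap μ)

lemma act_X_mul (μ : K →ₗ[k] K) (f : K[X][X]) : act μ (X * f) = X * act μ f := cmap_X_mul _ _

lemma act_CX_pow_mul (μ : K →ₗ[k] K) (b : ℕ) (f : K[X][X]) :
    act μ (C (X ^ b) * f) = C (X ^ b) * act μ f := by
  ext1 n
  rw [act, cmap_coeff, coeff_C_mul, coeff_C_mul, cmap_X_pow_mul, cmap_coeff]

lemma coeff_zero_act (μ : K →ₗ[k] K) (f : K[X][X]) (n : ℕ) :
    (act μ f).coeff n = cmap μ (f.coeff n) := cmap_coeff _ _ _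

variable (k K) in
/-- The coefficientwise action on `K[x][y]`. -/
noncomputable def CA : CoeffAct k K K[X][X] where
  act μ := (act μ).toAddMonoidHom
  gen := Set.range fun p : ℕ × ℕ => monomial p.2 (monomial p.1 (1 : K))
  span_gen := by
    rw [eq_top_iff]
    intro f _
    induction f using Polynomial.induction_on' with
    | add p q hp hq => exact Submodule.add_mem _ (hp trivial) (hq trivial)
    | monomial n a =>
      induction a using Polynomial.induction_on' with
      | add p q hp hq => rw [map_add]; exact Submodule.add_mem _ (hp trivial) (hq trivial)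
      | monomial m c =>
        have : monomial n (monomial m c) = c • monomial n (monomial m (1 : K)) := by
          rw [smul_monomial, smul_monomial, smul_eq_mul, mul_one]
        rw [this]
        exact Submodule.smul_mem _ _ (Submodule.subset_span ⟨(m, n), rfl⟩)
  act_smul := by
    rintro μ c _ ⟨⟨m, n⟩, rfl⟩
    change act μ _ = _
    simp only [smul_monomial, smul_eq_mul, mul_one, act, cmap_monomial]

lemma CA_act (μ : K →ₗ[k] K) (f : K[X][X]) : (CA k K).act μ f = act μ f := rfl

lemma act_C_mul {F : IntermediateField k K} {μ : K →ₗ[k] K} (hμ : Lin F μ) (r : K[X])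
    {h : K[X][X]} (hh : (CA k K).Rat F h) : act μ (C r * h) = C (cmap μ r) * h := by
  induction r using Polynomial.induction_on' with
  | add p q hp hq => rw [C_add, add_mul, map_add, hp, hq, map_add, C_add, add_mul]
  | monomial n c =>
    have h0 : ∀ d : K, (C (monomial n d) : K[X][X]) * h = C (X ^ n) * (d • h) := by
      intro d
      rw [← smul_X_eq_monomial, ← smul_C, smul_mul_assoc, mul_smul_comm]
    have h1 := h0 c
    have h2 := h0 (μ c)
    rw [h1, act_CX_pow_mul, cmap_monomial, h2]
    congr 1
    exact hh μ hμ c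

lemma rat_CX_pow_mul {F : IntermediateField k K} (b : ℕ) {h : K[X][X]}
    (hh : (CA k K).Rat F h) : (CA k K).Rat F (C (X ^ b) * h) := by
  intro μ hμ c
  rw [CA_act, ← mul_smul_comm, act_CX_pow_mul, ← CA_act, hh μ hμ c, mul_smul_comm]

lemma rat_X_mul {F : IntermediateField k K} {h : K[X][X]}
    (hh : (CA k K).Rat F h) : (CA k K).Rat F (X * h) := by
  intro μ hμ c
  rw [CA_act, ← mul_smul_comm, act_X_mul, ← CA_act, hh μ hμ c, mul_smul_comm]

/-- `(J : y)`. -/
noncomputable def colonY (J : Ideal K[X][X]) : Ideal K[X][X] :=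
  Submodule.comap (LinearMap.mulLeft K[X][X] (X : K[X][X])) J

lemma mem_colonY {J : Ideal K[X][X]} {f : K[X][X]} : f ∈ colonY J ↔ X * f ∈ J := Iff.rfl

lemma le_colonY (J : Ideal K[X][X]) : J ≤ colonY J := fun _ hf => J.mul_mem_left _ hf

lemma def_colonY {F : IntermediateField k K} {J : Ideal K[X][X]}
    (h : (CA k K).Def F (J.restrictScalars K)) :
    (CA k K).Def F ((colonY J).restrictScalars K) := by
  intro μ hμ f hf
  change X * act μ f ∈ J
  rw [← act_X_mul]
  exact h μ hμ _ hf

/-- An ideal of `K[x]` containing a power of `x` is generated by a power of `x`. -/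
lemma exists_eq_span_X_pow {I : Ideal K[X]} {N : ℕ} (h : X ^ N ∈ I) :
    ∃ b ≤ N, I = Ideal.span {X ^ b} := by
  obtain ⟨p, hp⟩ := (IsPrincipalIdealRing.principal I).principal
  have hp' : I = Ideal.span {p} := hp
  rw [hp', Ideal.mem_span_singleton, dvd_prime_pow prime_X] at h
  obtain ⟨b, hb, hb'⟩ := h
  exact ⟨b, hb, by rw [hp', Ideal.span_singleton_eq_span_singleton]; exact hb'⟩

/-- Constant coefficients. -/
lemma exists_lead (J : Ideal K[X][X]) {N : ℕ} (hN : C (X ^ N) ∈ J) :
    ∃ b : ℕ, (∃ h ∈ J, h.coeff 0 = X ^ b) ∧ ∀ f ∈ J, X ^ b ∣ f.coeff 0 := by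
  have hs : Function.Surjective (constantCoeff : K[X][X] →+* K[X]) := fun a => ⟨C a, by simp⟩
  have h1 : X ^ N ∈ J.map (constantCoeff : K[X][X] →+* K[X]) := by
    have := Ideal.mem_map_of_mem (constantCoeff : K[X][X] →+* K[X]) hN
    rwa [constantCoeff_apply, coeff_C_zero] at this
  obtain ⟨b, -, hb⟩ := exists_eq_span_X_pow h1
  refine ⟨b, ?_, fun f hf => ?_⟩
  · have h2 : X ^ b ∈ J.map (constantCoeff : K[X][X] →+* K[X]) := by
      rw [hb]; exact Ideal.mem_span_singleton_self _
    obtain ⟨h, hh, hh'⟩ := (Ideal.mem_map_iff_of_surjective _ hs).1 h2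
    exact ⟨h, hh, by simpa using hh'⟩
  · have h2 := Ideal.mem_map_of_mem (constantCoeff : K[X][X] →+* K[X]) hf
    rw [hb, Ideal.mem_span_singleton] at h2
    simpa using h2

/-- Elements of `J` without constant term. -/
lemma exists_colonY {J : Ideal K[X][X]} {f : K[X][X]} (hf : f ∈ J) (h0 : f.coeff 0 = 0) :
    ∃ g ∈ colonY J, f = X * g := by
  obtain ⟨g, rfl⟩ := X_dvd_iff.2 h0
  exact ⟨g, hf, rfl⟩

/-- Elements of a subspace `U'' ⊇ U'` defined over `F` in terms of finitely many rational
elements: their number is the dimension. -/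
lemma exists_coords {F : IntermediateField k K} {M : Type*} [AddCommGroup M] [Module K M]
    (A : CoeffAct k K M) {W W' : Submodule K M} (hWW : W ≤ W') (hW' : A.Def F W')
    [Module.Finite K (M ⧸ W)] {g : M} (hg : g ∈ W') :
    ∃ (n : ℕ) (e : Fin n → M) (s : Fin n → K), n + finrank K (M ⧸ W') ≤ finrank K (M ⧸ W) ∧
      (∀ i, e i ∈ W' ∧ A.Rat F (e i)) ∧ g - ∑ i, s i • e i ∈ W := by
  classical
  set G : Set (M ⧸ W) := W.mkQ '' {w | w ∈ W' ∧ A.Rat F w} with hG
  obtain ⟨b, hbG, hb1, hb2⟩ := exists_linearIndependent K G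
  have hspan : Submodule.span K G = W'.map W.mkQ := by
    apply le_antisymm
    · rw [Submodule.span_le]
      rintro _ ⟨w, hw, rfl⟩
      exact Submodule.mem_map_of_mem hw.1
    · rw [hG, ← Submodule.map_span]
      exact Submodule.map_mono hW'.le_span
  have hfin : b.Finite := hb2.setFinite
  have : Fintype b := hfin.fintype
  have hcard : Fintype.card b = finrank K (W'.map W.mkQ) := by
    rw [← hspan, ← hb1]
    exact (finrank_span_set_eq_card hb2 |>.trans (by simp)).symm
  have hg' : W.mkQ g ∈ Submodule.span K b := by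
    rw [hb1, hspan]; exact Submodule.mem_map_of_mem hg
  have hch : ∀ v : b, ∃ w, (w ∈ W' ∧ A.Rat F w) ∧ W.mkQ w = v := fun v => hbG v.2
  choose e he using hch
  obtain ⟨s, hs⟩ : ∃ s : b → K, ∑ v, s v • (v : M ⧸ W) = W.mkQ g := by
    have hr : Set.range (fun v : b => (v : M ⧸ W)) = b := Subtype.range_coe
    rw [← hr] at hg'
    obtain ⟨s, hs⟩ := (Submodule.mem_span_range_iff_exists_fun K).1 hg'
    exact ⟨s, hs⟩
  let eq := (Fintype.equivFin b).symm
  refine ⟨Fintype.card b, fun i => e (eq i), fun i => s (eq i), ?_, fun i => (he _).1, ?_⟩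
  · rw [hcard]
    have h1 := Submodule.finrank_quotient_add_finrank (W'.map W.mkQ)
    have h2 : finrank K ((M ⧸ W) ⧸ W'.map W.mkQ) = finrank K (M ⧸ W') :=
      (Submodule.quotientQuotientEquivQuotient W W' hWW).finrank_eq
    omega
  · rw [Equiv.sum_comp eq (fun v : b => s v • e v), ← Submodule.Quotient.mk_eq_zero]
    change W.mkQ _ = 0
    rw [map_sub, map_sum, ← hs, sub_eq_zero]
    refine Finset.sum_congr rfl fun v _ => ?_
    rw [map_smul, (he v).2]

/-- **Briançon's bound, field of definition form.** -/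
theorem brian (M : ℕ) : ∀ (J : Ideal K[X][X]) (N : ℕ), (X : K[X][X]) ^ M ∈ J → C (X ^ N) ∈ J →
    Module.Finite K (K[X][X] ⧸ J.restrictScalars K) →
    ∃ S : Finset K, S.card ≤ finrank K (K[X][X] ⧸ (colonY J).restrictScalars K) ∧
      (CA k K).Def (IntermediateField.adjoin k (S : Set K)) (J.restrictScalars K) := by
  classical
  induction M with
  | zero =>
    intro J N hM hN _
    have hJ : J = ⊤ := (Ideal.eq_top_iff_one _).2 (by simpa using hM)
    subst hJ
    exact ⟨∅, by simp, fun μ hμ w _ => trivial⟩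
  | succ M ih =>
    intro J N hM hN hfin
    set J' := colonY J with hJ'
    have hM' : (X : K[X][X]) ^ M ∈ J' := by
      rw [mem_colonY, ← pow_succ']; exact hM
    have hN' : C (X ^ N) ∈ J' := le_colonY J hN
    have hle : J.restrictScalars K ≤ J'.restrictScalars K := le_colonY J
    have hfin' : Module.Finite K (K[X][X] ⧸ J'.restrictScalars K) :=
      Module.Finite.of_surjective (Submodule.factor hle) (Submodule.factor_surjective hle)
    obtain ⟨S', hS', hdef'⟩ := ih J' N hM' hN' hfin'
    set F' := IntermediateField.adjoin k (S' : Set K) with hF'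
    obtain ⟨b, ⟨h0, h0J, h0c⟩, hb⟩ := exists_lead J hN
    obtain ⟨b', ⟨h1, h1J, h1c⟩, hb'⟩ := exists_lead J' hN'
    have hbb : b' ≤ b := by
      have h2 := hb' h0 (le_colonY J h0J)
      rw [h0c] at h2
      exact (pow_dvd_pow_iff X_ne_zero not_isUnit_X).1 h2
    obtain ⟨ρ, hρ1, hρ2, hρ3⟩ := exists_proj F'
    set h' := act ρ h1 with hh'
    have h'J : h' ∈ J' := hdef' ρ hρ1 h1 h1J
    have h'R : (CA k K).Rat F' h' := rat_act (A := CA k K) hρ2 h1
    have h'c : h'.coeff 0 = X ^ b' := by
      rw [hh', coeff_zero_act, h1c, ← monomial_one_right_eq_X_pow, cmap_monomial, hρ3]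
    obtain ⟨g, hg, hfg⟩ := exists_colonY (J := J') (f := h0 - C (X ^ (b - b')) * h')
      (sub_mem (le_colonY J h0J) (J'.mul_mem_left _ h'J))
      (by rw [coeff_sub, coeff_C_mul, h0c, h'c, ← pow_add, Nat.sub_add_cancel hbb, sub_self])
    have hdef'' := def_colonY hdef'
    obtain ⟨n, e, s, hn, he, hs⟩ := exists_coords (CA k K)
      (W := J'.restrictScalars K) (W' := (colonY J').restrictScalars K) (le_colonY J') hdef'' hg
    refine ⟨S' ∪ Finset.univ.image s, ?_, ?_⟩
    · refine (Finset.card_union_le _ _).trans ?_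
      have : (Finset.univ.image s).card ≤ n := by
        simpa using Finset.card_image_le (s := Finset.univ) (f := s)
      omega
    set F := IntermediateField.adjoin k ((S' ∪ Finset.univ.image s : Finset K) : Set K) with hF
    have hFF : F' ≤ F := IntermediateField.adjoin.mono _ _ _ (by
      intro x hx; simp only [Finset.coe_union, Set.mem_union]; exact Or.inl hx)
    have hsF : ∀ i, s i ∈ F := fun i => IntermediateField.subset_adjoin _ _ (by simp)
    set w := g - ∑ i, s i • e i with hw
    have hwJ : w ∈ J' := hs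
    set h'' := C (X ^ (b - b')) * h' + X * ∑ i, s i • e i with hh''
    have h''R : (CA k K).Rat F h'' :=
      (rat_CX_pow_mul _ (h'R.mono hFF)).add (rat_X_mul (Rat.sum _ _ fun i _ =>
        ((he i).2.mono hFF).smul (hsF i)))
    have h0eq : h0 = h'' + X * w := by
      rw [hh'', hw, mul_sub, ← hfg]; ring
    have h''J : h'' ∈ J := by
      have : h'' = h0 - X * w := by rw [h0eq]; ring
      rw [this]; exact sub_mem h0J hwJ
    intro μ hμ f hf
    obtain ⟨r, hr⟩ := hb f hf
    obtain ⟨j, hj, hj'⟩ := exists_colonY (J := J) (f := f - C r * h0)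
      (sub_mem hf (J.mul_mem_left _ h0J))
      (by rw [coeff_sub, coeff_C_mul, h0c, hr, mul_comm, sub_self])
    have hfe : f = C r * h'' + X * (C r * w + j) := by
      have : f = C r * h0 + X * j := by rw [← hj']; ring
      rw [this, h0eq]; ring
    rw [CA_act, hfe, map_add, act_C_mul hμ r h''R, act_X_mul]
    refine add_mem (J.mul_mem_left _ h''J) ?_
    exact hdef'.mono hFF μ hμ (C r * w + j) (add_mem (J'.mul_mem_left _ hwJ) hj)

/-- The colon ideal is strictly bigger. -/
lemma finrank_colonY_lt {J : Ideal K[X][X]} (hJ : J ≠ ⊤) {M : ℕ} (hM : (X : K[X][X]) ^ M ∈ J)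
    [Module.Finite K (K[X][X] ⧸ J.restrictScalars K)] :
    finrank K (K[X][X] ⧸ (colonY J).restrictScalars K) <
      finrank K (K[X][X] ⧸ J.restrictScalars K) := by
  have hne : J ≠ colonY J := by
    intro h
    have : ∀ i ≤ M, (X : K[X][X]) ^ (M - i) ∈ J := by
      intro i
      induction i with
      | zero => intro _; simpa using hM
      | succ i ih =>
        intro hi
        rw [h, mem_colonY, ← pow_succ']
        have := ih (by omega)
        rwa [show M - (i + 1) + 1 = M - i by omega]
    exact hJ ((Ideal.eq_top_iff_one _).2 (by simpa using this M le_rfl))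
  have hlt : J.restrictScalars K < (colonY J).restrictScalars K :=
    lt_of_le_of_ne (le_colonY J) fun h => hne (Submodule.restrictScalars_injective K _ _ h)
  have hle := hlt.le
  have h1 := Submodule.finrank_quotient_add_finrank
    (((colonY J).restrictScalars K).map (J.restrictScalars K).mkQ)
  have h2 := (Submodule.quotientQuotientEquivQuotient (J.restrictScalars K)
    ((colonY J).restrictScalars K) hle).finrank_eq
  have h3 : 0 < finrank K (((colonY J).restrictScalars K).map (J.restrictScalars K).mkQ) := by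
    rw [Module.finrank_pos_iff, Submodule.nontrivial_iff_ne_bot]
    intro h
    apply hlt.not_ge
    intro x hx
    have h4 : (J.restrictScalars K).mkQ x ∈
        ((colonY J).restrictScalars K).map (J.restrictScalars K).mkQ :=
      Submodule.mem_map_of_mem hx
    rw [h, Submodule.mem_bot] at h4
    exact (Submodule.Quotient.mk_eq_zero _).1 h4
  omega

/-- An ideal `J ≠ K[x, y]` of colength `m` containing powers of `x` and `y` is defined over the
field generated by at most `m - 1` elements. -/
theorem exists_def {J : Ideal K[X][X]} (hJ : J ≠ ⊤) {M N : ℕ} (hM : (X : K[X][X]) ^ M ∈ J)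
    (hN : C (X ^ N) ∈ J) [Module.Finite K (K[X][X] ⧸ J.restrictScalars K)] :
    ∃ S : Finset K, S.card < finrank K (K[X][X] ⧸ J.restrictScalars K) ∧
      (CA k K).Def (IntermediateField.adjoin k (S : Set K)) (J.restrictScalars K) := by
  obtain ⟨S, h1, h2⟩ := brian (k := k) M J N hM hN inferInstance
  exact ⟨S, h1.trans_lt (finrank_colonY_lt hJ hM), h2⟩

end K536.Brian
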