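import Mathlib.FieldTheory.IntermediateField.Adjoin.Basic
import Mathlib.LinearAlgebra.Basis.VectorSpace
import Mathlib.LinearAlgebra.FreeModule.Finite.Basic
import Mathlib.RingTheory.TensorProduct.Basic
import Mathlib.LinearAlgebra.TensorProduct.Tower
import Mathlib.Algebra.Polynomial.Bivariate

/-!
# Subspaces defined over a subfield

`k ≤ K` fields, `M` a `K`-module with a coefficientwise action of the `k`-linear endomorphisms of
`K` (for instance `K ⊗[k] V` or `K[X][Y]`). A `K`-subspace is defined over the intermediate field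
`F` iff it is stable under the action of the `F`-linear endomorphisms of `K`.
-/

set_option autoImplicit false

namespace K536.DefOver

open Polynomial

variable {k K : Type*} [Field k] [Field K] [Algebra k K]

/-- `μ` is `F`-linear. -/
def Lin (F : IntermediateField k K) (μ : K →ₗ[k] K) : Prop := ∀ a ∈ F, ∀ c, μ (a * c) = a * μ c

lemma Lin.mono {F F' : IntermediateField k K} (h : F ≤ F') {μ : K →ₗ[k] K} (hμ : Lin F' μ) :
    Lin F μ := fun a ha c => hμ a (h ha) c

lemma lin_adjoin {T : Set K} {μ : K →ₗ[k] K} (h : ∀ a ∈ T, ∀ c, μ (a * c) = a * μ c) :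
    Lin (IntermediateField.adjoin k T) μ := by
  intro a ha
  induction ha using IntermediateField.adjoin_induction with
  | mem x hx => exact h x hx
  | algebraMap x => intro c; rw [← Algebra.smul_def, map_smul, Algebra.smul_def]
  | add x y _ _ hx hy => intro c; rw [add_mul, map_add, hx, hy, add_mul]
  | mul x y _ _ hx hy => intro c; rw [mul_assoc, hx, hy, mul_assoc]
  | inv x _ hx =>
    intro c
    by_cases h0 : x = 0
    · simp [h0]
    · have := hx (x⁻¹ * c)
      rw [← mul_assoc, mul_inv_cancel₀ h0, one_mul] at this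
      rw [this, ← mul_assoc, inv_mul_cancel₀ h0, one_mul]

lemma lin_sup {F F' : IntermediateField k K} {μ : K →ₗ[k] K} (h : Lin F μ) (h' : Lin F' μ) :
    Lin (F ⊔ F') μ := by
  refine Lin.mono (F' := IntermediateField.adjoin k ((F : Set K) ∪ F')) (sup_le ?_ ?_)
    (lin_adjoin ?_)
  · exact fun x hx => IntermediateField.subset_adjoin _ _ (Or.inl hx)
  · exact fun x hx => IntermediateField.subset_adjoin _ _ (Or.inr hx)
  rintro a (ha | ha) c
  · exact h a ha c
  · exact h' a ha c

/-- A coefficientwise action of the `k`-linear endomorphisms of `K` on a `K`-module. -/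
structure CoeffAct (k K M : Type*) [Field k] [Field K] [Algebra k K] [AddCommGroup M]
    [Module K M] where
  act : (K →ₗ[k] K) → (M →+ M)
  gen : Set M
  span_gen : Submodule.span K gen = ⊤
  act_smul : ∀ (μ : K →ₗ[k] K) (c : K), ∀ g ∈ gen, act μ (c • g) = μ c • g

variable {M : Type*} [AddCommGroup M] [Module K M] (A : CoeffAct k K M)

namespace CoeffAct

/-- Elements with coefficients in `F`. -/
def Rat (F : IntermediateField k K) (m : M) : Prop :=
  ∀ μ : K →ₗ[k] K, Lin F μ → ∀ c : K, A.act μ (c • m) = μ c • m

/-- Subspaces defined over `F`. -/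
def Def (F : IntermediateField k K) (W : Submodule K M) : Prop :=
  ∀ μ : K →ₗ[k] K, Lin F μ → ∀ w ∈ W, A.act μ w ∈ W

variable {A}

lemma Rat.mono {F F' : IntermediateField k K} (h : F ≤ F') {m : M} (hm : A.Rat F m) :
    A.Rat F' m := fun μ hμ c => hm μ (hμ.mono h) c

lemma Def.mono {F F' : IntermediateField k K} (h : F ≤ F') {W : Submodule K M} (hm : A.Def F W) :
    A.Def F' W := fun μ hμ c => hm μ (hμ.mono h) c

lemma rat_gen (F : IntermediateField k K) {g : M} (hg : g ∈ A.gen) : A.Rat F g :=
  fun μ _ c => A.act_smul μ c g hg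

lemma Rat.add {F : IntermediateField k K} {m n : M} (hm : A.Rat F m) (hn : A.Rat F n) :
    A.Rat F (m + n) := fun μ hμ c => by rw [smul_add, map_add, hm μ hμ, hn μ hμ, smul_add]

lemma rat_zero (F : IntermediateField k K) : A.Rat F 0 := fun μ _ c => by simp

lemma Rat.smul {F : IntermediateField k K} {m : M} (hm : A.Rat F m) {a : K} (ha : a ∈ F) :
    A.Rat F (a • m) := fun μ hμ c => by
  rw [smul_smul, hm μ hμ, mul_comm, hμ a ha, smul_smul, mul_comm]

lemma Rat.sum {F : IntermediateField k K} {ι : Type*} (s : Finset ι) (f : ι → M)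
    (h : ∀ i ∈ s, A.Rat F (f i)) : A.Rat F (∑ i ∈ s, f i) := by
  classical
  induction s using Finset.induction_on with
  | empty => simpa using rat_zero F
  | insert i s hi ih =>
    rw [Finset.sum_insert hi]
    exact (h i (Finset.mem_insert_self _ _)).add
      (ih fun j hj => h j (Finset.mem_insert_of_mem hj))

lemma rat_act {F : IntermediateField k K} {μ : K →ₗ[k] K} (hr : ∀ c, μ c ∈ F) (m : M) :
    A.Rat F (A.act μ m) := by
  have hm : m ∈ Submodule.span K A.gen := by rw [A.span_gen]; trivial
  induction hm using Submodule.span_induction with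
  | mem x hx =>
    have h1 : A.act μ x = μ 1 • x := by rw [← A.act_smul μ 1 x hx, one_smul]
    rw [h1]; exact (rat_gen F hx).smul (hr 1)
  | zero => rw [map_zero]; exact rat_zero F
  | add x y _ _ hx hy => rw [map_add]; exact hx.add hy
  | smul a x hx ih =>
    clear ih
    -- need the statement for all scalars: strengthen
    have key : ∀ y ∈ Submodule.span K A.gen, ∀ b : K, A.Rat F (A.act μ (b • y)) := by
      intro y hy
      induction hy using Submodule.span_induction with
      | mem z hz =>
        intro b
        rw [A.act_smul μ b z hz]; exact (rat_gen F hz).smul (hr b)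
      | zero => intro b; simpa using rat_zero F
      | add z w _ _ hz hw => intro b; rw [smul_add, map_add]; exact (hz b).add (hw b)
      | smul e z _ ih => intro b; rw [smul_smul]; exact ih _
    exact key x hx a

/-- The action is additive in `μ` on finite sums with coefficients: decomposition of an element
along a basis of `K` over `F`. -/
lemma exists_decomp (F : IntermediateField k K) (m : M) :
    ∃ (ι : Type) (_ : Fintype ι) (c : ι → K) (l : ι → (K →ₗ[k] K)),
      (∀ i, Lin F (l i)) ∧ (∀ i x, l i x ∈ F) ∧ m = ∑ i, c i • A.act (l i) m := by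
  classical
  let b := Module.Basis.ofVectorSpace F K
  let l : Module.Basis.ofVectorSpaceIndex F K → (K →ₗ[k] K) := fun i =>
    (((Algebra.linearMap F K).restrictScalars k) ∘ₗ ((b.coord i).restrictScalars k))
  have hl : ∀ i x, l i x = (b.coord i x : K) := fun i x => rfl
  have hlin : ∀ i, Lin F (l i) := by
    intro i a ha c
    rw [hl, hl]
    have : a * c = (⟨a, ha⟩ : F) • c := rfl
    rw [this, map_smul]; rfl
  have hF : ∀ i x, l i x ∈ F := fun i x => (b.coord i x).2
  have key : ∀ m ∈ Submodule.span K A.gen, ∃ s : Finset (Module.Basis.ofVectorSpaceIndex F K),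
      ∀ t, s ⊆ t → m = ∑ i ∈ t, b i • A.act (l i) m := by
    have h1 : ∀ m ∈ Submodule.span K A.gen, ∀ a : K,
        ∃ s : Finset (Module.Basis.ofVectorSpaceIndex F K),
      ∀ t, s ⊆ t → a • m = ∑ i ∈ t, b i • A.act (l i) (a • m) := by
      intro m hm
      induction hm using Submodule.span_induction with
      | mem z hz =>
        intro a
        refine ⟨(b.repr a).support, fun t ht => ?_⟩
        simp_rw [A.act_smul _ _ z hz, hl, smul_smul]
        rw [← Finset.sum_smul]
        congr 1
        conv_lhs => rw [← b.linearCombination_repr a, Finsupp.linearCombination_apply]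
        rw [Finsupp.sum_of_support_subset _ ht _ (by simp)]
        refine Finset.sum_congr rfl fun i _ => ?_
        rw [Module.Basis.coord_apply, mul_comm]
        rfl
      | zero => intro a; exact ⟨∅, fun t _ => by simp⟩
      | add z w _ _ hz hw =>
        intro a
        obtain ⟨s, hs⟩ := hz a
        obtain ⟨s', hs'⟩ := hw a
        refine ⟨s ∪ s', fun t ht => ?_⟩
        simp_rw [smul_add, map_add, smul_add]
        rw [Finset.sum_add_distrib, ← hs t (Finset.union_subset_left ht),
          ← hs' t (Finset.union_subset_right ht)]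
      | smul e z _ ih => intro a; simp_rw [smul_smul]; exact ih _
    intro m hm
    simpa using h1 m hm 1
  obtain ⟨s, hs⟩ := key m (by rw [A.span_gen]; trivial)
  have h0 := hs s subset_rfl
  refine ⟨Fin s.card, inferInstance, fun i => b (s.equivFin.symm i),
    fun i => l (s.equivFin.symm i), fun i => hlin _, fun i x => hF _ _, ?_⟩
  conv_lhs => rw [h0]
  rw [← Finset.sum_coe_sort]
  exact (Equiv.sum_comp s.equivFin.symm (fun i : s => b i • A.act (l i) m)).symm

/-- A subspace defined over `F` is spanned by its elements with coefficients in `F`. -/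
lemma Def.le_span {F : IntermediateField k K} {W : Submodule K M} (hW : A.Def F W) :
    W ≤ Submodule.span K {w | w ∈ W ∧ A.Rat F w} := by
  intro m hm
  obtain ⟨ι, _, c, l, h1, h2, h3⟩ := exists_decomp (A := A) F m
  rw [h3]
  refine Submodule.sum_mem _ fun i _ => Submodule.smul_mem _ _ (Submodule.subset_span ?_)
  exact ⟨hW _ (h1 i) m hm, rat_act (h2 i) m⟩

/-- There is a projection of `K` onto `F`. -/
lemma exists_proj (F : IntermediateField k K) :
    ∃ ρ : K →ₗ[k] K, Lin F ρ ∧ (∀ x, ρ x ∈ F) ∧ ρ 1 = 1 := by
  obtain ⟨g, hg⟩ := LinearMap.exists_leftInverse_of_injective (Algebra.linearMap F K)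
    (LinearMap.ker_eq_bot.2 (algebraMap F K).injective)
  refine ⟨(((Algebra.linearMap F K).restrictScalars k) ∘ₗ (g.restrictScalars k)), ?_, ?_, ?_⟩
  · intro a ha c
    have : a * c = (⟨a, ha⟩ : F) • c := rfl
    change algebraMap F K (g (a * c)) = a * algebraMap F K (g c)
    rw [this, map_smul]; rfl
  · intro x; exact (g x).2
  · have h1 := LinearMap.congr_fun hg 1
    change algebraMap F K (g 1) = 1
    have h2 : g 1 = 1 := by
      have : Algebra.linearMap F K 1 = 1 := by simp
      rw [LinearMap.comp_apply, this] at h1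
      simpa using h1
    rw [h2, map_one]

lemma Def.inf {F : IntermediateField k K} {W W' : Submodule K M} (h : A.Def F W)
    (h' : A.Def F W') : A.Def F (W ⊓ W') := fun μ hμ w hw => ⟨h μ hμ w hw.1, h' μ hμ w hw.2⟩

lemma Def.iInf {F : IntermediateField k K} {ι : Sort*} {W : ι → Submodule K M}
    (h : ∀ i, A.Def F (W i)) : A.Def F (⨅ i, W i) := fun μ hμ w hw => by
  rw [Submodule.mem_iInf] at hw ⊢
  exact fun i => h i μ hμ w (hw i)

lemma Def.sup {F : IntermediateField k K} {W W' : Submodule K M} (h : A.Def F W)
    (h' : A.Def F W') : A.Def F (W ⊔ W') := fun μ hμ w hw => by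
  obtain ⟨y, hy, z, hz, rfl⟩ := Submodule.mem_sup.1 hw
  rw [map_add]
  exact Submodule.add_mem_sup (h μ hμ y hy) (h' μ hμ z hz)

lemma def_span {F : IntermediateField k K} {s : Set M} (h : ∀ x ∈ s, A.Rat F x) :
    A.Def F (Submodule.span K s) := fun μ hμ w hw => by
  have key : ∀ y ∈ Submodule.span K s, ∀ b : K, A.act μ (b • y) ∈ Submodule.span K s := by
    intro y hy
    induction hy using Submodule.span_induction with
    | mem z hz =>
      intro b
      rw [h z hz μ hμ b]; exact Submodule.smul_mem _ _ (Submodule.subset_span hz)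
    | zero => intro b; simp
    | add z w _ _ hz hw => intro b; rw [smul_add, map_add]; exact Submodule.add_mem _ (hz b) (hw b)
    | smul e z _ ih => intro b; rw [smul_smul]; exact ih _
  simpa using key w hw 1

end CoeffAct

end K536.DefOver
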