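import Groth.Agent.HilbD.K536.Brian
import Groth.Agent.Lefpen.H718.JacRank
import Mathlib.LinearAlgebra.Dual.Lemmas

/-!
# Fields of definition of punctual ideals on a curve on a smooth surface

`A` a `k`-algebra, `c : A → K` a `K`-point, `𝔪` the corresponding maximal ideal of `K ⊗ A`.
If `𝔪` is generated modulo `𝔪²` by two elements, then an ideal `J ≠ ⊤` containing a power of `𝔪`,
of colength `m`, is defined over `k(c(A), S)` with `|S| < m`.
-/

set_option autoImplicit false

universe u

namespace K536.Form

open Pointwise TensorProduct Polynomial K536.DefOver K536.DefOver.CoeffAct Module K536.Brian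

variable {k K A : Type u} [Field k] [Field K] [Algebra k K] [CommRing A] [Algebra k A]

variable (k K A) in
/-- The coefficientwise action on `K ⊗ A`. -/
noncomputable def TA : CoeffAct k K (K ⊗[k] A) where
  act μ := (LinearMap.rTensor A μ).toAddMonoidHom
  gen := Set.range fun a : A => (1 : K) ⊗ₜ[k] a
  span_gen := by
    rw [eq_top_iff]
    intro x _
    induction x using TensorProduct.induction_on with
    | zero => exact Submodule.zero_mem _
    | add x y hx hy => exact Submodule.add_mem _ (hx trivial) (hy trivial)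
    | tmul c a =>
      have : c ⊗ₜ[k] a = c • ((1 : K) ⊗ₜ[k] a) := by rw [smul_tmul', smul_eq_mul, mul_one]
      rw [this]
      exact Submodule.smul_mem _ _ (Submodule.subset_span ⟨a, rfl⟩)
  act_smul := by
    rintro μ c _ ⟨a, rfl⟩
    have h : ∀ e : K, e • ((1 : K) ⊗ₜ[k] a) = e ⊗ₜ[k] a := fun e => by
      rw [smul_tmul', smul_eq_mul, mul_one]
    simp only [h]
    exact LinearMap.rTensor_tmul _ _ _ _

lemma TA_act (μ : K →ₗ[k] K) (x : K ⊗[k] A) : (TA k K A).act μ x = LinearMap.rTensor A μ x := rfl

lemma TA_act_tmul (μ : K →ₗ[k] K) (c : K) (a : A) :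
    (TA k K A).act μ (c ⊗ₜ[k] a) = μ c ⊗ₜ[k] a := LinearMap.rTensor_tmul _ _ _ _

lemma rat_tmul {F : IntermediateField k K} {c : K} (hc : c ∈ F) (a : A) :
    (TA k K A).Rat F (c ⊗ₜ[k] a) := by
  have : c ⊗ₜ[k] a = c • ((1 : K) ⊗ₜ[k] a) := by rw [smul_tmul', smul_eq_mul, mul_one]
  rw [this]
  exact (rat_gen (A := TA k K A) F ⟨a, rfl⟩).smul hc

lemma rat_one (F : IntermediateField k K) : (TA k K A).Rat F 1 :=
  rat_tmul F.one_mem 1

lemma rat_tmul_mul {F : IntermediateField k K} {c : K} (hc : c ∈ F) (a : A) {y : K ⊗[k] A}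
    (hy : (TA k K A).Rat F y) : (TA k K A).Rat F (c ⊗ₜ[k] a * y) := by
  have h1 : ∀ (μ : K →ₗ[k] K) (z : K ⊗[k] A), (TA k K A).act μ ((1 : K) ⊗ₜ[k] a * z) =
      (1 : K) ⊗ₜ[k] a * (TA k K A).act μ z := by
    intro μ z
    induction z using TensorProduct.induction_on with
    | zero => simp
    | add x y hx hy => rw [mul_add, map_add, hx, hy, map_add, mul_add]
    | tmul e b =>
      rw [Algebra.TensorProduct.tmul_mul_tmul, TA_act_tmul, TA_act_tmul,
        Algebra.TensorProduct.tmul_mul_tmul, one_mul, one_mul]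
  have h2 : (TA k K A).Rat F ((1 : K) ⊗ₜ[k] a * y) := by
    intro μ hμ e
    rw [← mul_smul_comm, h1, hy μ hμ, mul_smul_comm]
  have : c ⊗ₜ[k] a * y = c • ((1 : K) ⊗ₜ[k] a * y) := by
    rw [← smul_mul_assoc, smul_tmul', smul_eq_mul, mul_one]
  rw [this]
  exact h2.smul hc

/-- Rational elements are closed under multiplication. -/
lemma rat_mul {F : IntermediateField k K} {x y : K ⊗[k] A} (hx : (TA k K A).Rat F x)
    (hy : (TA k K A).Rat F y) : (TA k K A).Rat F (x * y) := by
  obtain ⟨ρ, hρ1, hρ2, hρ3⟩ := exists_proj F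
  have hx' : x = (TA k K A).act ρ x := by
    have := hx ρ hρ1 1
    rw [one_smul, hρ3, one_smul] at this
    exact this.symm
  rw [hx']
  clear hx hx'
  induction x using TensorProduct.induction_on with
  | zero => rw [map_zero, zero_mul]; exact rat_zero F
  | add x z hx hz => rw [map_add, add_mul]; exact hx.add hz
  | tmul e b => rw [TA_act_tmul]; exact rat_tmul_mul (hρ2 e) b hy

lemma rat_pow {F : IntermediateField k K} {x : K ⊗[k] A} (hx : (TA k K A).Rat F x) (n : ℕ) :
    (TA k K A).Rat F (x ^ n) := by
  induction n with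
  | zero => rw [pow_zero]; exact rat_one F
  | succ n ih => rw [pow_succ]; exact rat_mul ih hx

/-- Ideals generated by rational elements are defined over `F`. -/
lemma def_ideal_span {F : IntermediateField k K} {s : Set (K ⊗[k] A)}
    (hs : ∀ x ∈ s, (TA k K A).Rat F x) :
    (TA k K A).Def F ((Ideal.span s).restrictScalars K) := by
  have h : (Ideal.span s).restrictScalars K =
      Submodule.span K {z | ∃ a : A, ∃ x ∈ s, z = (1 : K) ⊗ₜ[k] a * x} := by
    apply le_antisymm
    · intro z hz
      have hz' : z ∈ Ideal.span s := hz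
      clear hz
      induction hz' using Submodule.span_induction with
      | mem x hx => exact Submodule.subset_span ⟨1, x, hx, by
          rw [← Algebra.TensorProduct.one_def, one_mul]⟩
      | zero => exact Submodule.zero_mem _
      | add x y _ _ hx hy => exact Submodule.add_mem _ hx hy
      | smul r x hx' hx =>
        clear hx'
        rw [smul_eq_mul]
        induction hx using Submodule.span_induction with
        | mem x hx =>
          obtain ⟨a, x, hx, rfl⟩ := hx
          induction r using TensorProduct.induction_on with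
          | zero => rw [zero_mul]; exact Submodule.zero_mem _
          | add r r' hr hr' => rw [add_mul]; exact Submodule.add_mem _ hr hr'
          | tmul e b =>
            have : e ⊗ₜ[k] b * ((1 : K) ⊗ₜ[k] a * x) = e • ((1 : K) ⊗ₜ[k] (b * a) * x) := by
              rw [← mul_assoc, Algebra.TensorProduct.tmul_mul_tmul, ← smul_mul_assoc, smul_tmul',
                smul_eq_mul]
            rw [this]
            exact Submodule.smul_mem _ _ (Submodule.subset_span ⟨_, x, hx, rfl⟩)
        | zero => rw [mul_zero]; exact Submodule.zero_mem _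
        | add x y _ _ hx hy => rw [mul_add]; exact Submodule.add_mem _ hx hy
        | smul e x _ hx => rw [mul_smul_comm]; exact Submodule.smul_mem _ _ hx
    · rw [Submodule.span_le]
      rintro _ ⟨a, x, hx, rfl⟩
      exact Ideal.mul_mem_left _ _ (Ideal.subset_span hx)
  rw [h]
  apply def_span
  rintro _ ⟨a, x, hx, rfl⟩
  exact rat_tmul_mul F.one_mem a (hs x hx)

/-- Powers of ideals generated by rational elements. -/
lemma exists_span_pow {F : IntermediateField k K} {s : Set (K ⊗[k] A)}
    (hs : ∀ x ∈ s, (TA k K A).Rat F x) (n : ℕ) :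
    ∃ t : Set (K ⊗[k] A), (∀ x ∈ t, (TA k K A).Rat F x) ∧ Ideal.span s ^ n = Ideal.span t := by
  induction n with
  | zero => exact ⟨{1}, fun x hx => by rw [hx]; exact rat_one F, by simp⟩
  | succ n ih =>
    obtain ⟨t, ht, h⟩ := ih
    refine ⟨t * s, ?_, ?_⟩
    · rintro _ ⟨x, hx, y, hy, rfl⟩
      exact rat_mul (ht x hx) (hs y hy)
    · rw [pow_succ, h, Ideal.span_mul_span']

section Point

variable (c : A →ₐ[k] K)

/-- Evaluation at the point `c`. -/
noncomputable def ev : K ⊗[k] A →ₐ[K] K :=
  Algebra.TensorProduct.lift (Algebra.ofId K K) c fun _ _ => mul_comm _ _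

@[simp] lemma ev_tmul (x : K) (a : A) : ev c (x ⊗ₜ[k] a) = x * c a := by
  simp [ev]

/-- The maximal ideal of the point `c`. -/
noncomputable def mm : Ideal (K ⊗[k] A) := RingHom.ker (ev c)

/-- `1 ⊗ a - c(a) ⊗ 1`. -/
noncomputable def δ (a : A) : K ⊗[k] A := (1 : K) ⊗ₜ[k] a - c a ⊗ₜ[k] 1

lemma δ_mem (a : A) : δ c a ∈ mm c := by
  rw [mm, RingHom.mem_ker, δ, map_sub, ev_tmul, ev_tmul, one_mul, map_one, mul_one, sub_self]

lemma eq_sum_δ (x : K ⊗[k] A) :
    x - algebraMap K _ (ev c x) ∈ Submodule.span K (Set.range (δ c)) := by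
  induction x using TensorProduct.induction_on with
  | zero => simp
  | add x y hx hy =>
    have : x + y - algebraMap K _ (ev c (x + y)) = (x - algebraMap K _ (ev c x)) +
      (y - algebraMap K _ (ev c y)) := by rw [map_add, map_add]; ring
    rw [this]; exact Submodule.add_mem _ hx hy
  | tmul e b =>
    have : e ⊗ₜ[k] b - algebraMap K (K ⊗[k] A) (ev c (e ⊗ₜ[k] b)) = e • δ c b := by
      rw [ev_tmul, δ, smul_sub, smul_tmul', smul_tmul', smul_eq_mul, mul_one, smul_eq_mul,
        Algebra.TensorProduct.algebraMap_apply, Algebra.algebraMap_self_apply]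
    rw [this]
    exact Submodule.smul_mem _ _ (Submodule.subset_span ⟨b, rfl⟩)

lemma mm_eq_span : mm c = Ideal.span (Set.range (δ c)) := by
  apply le_antisymm
  · intro x hx
    have h := eq_sum_δ c x
    have hx' : ev c x = 0 := hx
    rw [hx', map_zero, sub_zero] at h
    have h2 : Submodule.span K (Set.range (δ c)) ≤
        (Ideal.span (Set.range (δ c))).restrictScalars K := by
      rw [Submodule.span_le]; exact Ideal.subset_span
    exact h2 h
  · rw [Ideal.span_le]
    rintro _ ⟨a, rfl⟩
    exact δ_mem c a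

/-- The field generated by the coordinates of the point. -/
noncomputable def FF : IntermediateField k K := IntermediateField.adjoin k (Set.range c)

lemma rat_δ (a : A) : (TA k K A).Rat (FF c) (δ c a) := by
  have h1 := rat_tmul (A := A) (F := FF c) (FF c).one_mem a
  have h2 := rat_tmul (A := A) (F := FF c) (c := -c a)
    (neg_mem (IntermediateField.subset_adjoin _ _ ⟨a, rfl⟩)) 1
  have := h1.add h2
  rwa [neg_tmul, ← sub_eq_add_neg] at this

lemma def_mm_pow (n : ℕ) : (TA k K A).Def (FF c) ((mm c ^ n).restrictScalars K) := by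
  obtain ⟨t, ht, h⟩ := exists_span_pow (F := FF c) (s := Set.range (δ c))
    (by rintro _ ⟨a, rfl⟩; exact rat_δ c a) n
  rw [mm_eq_span, h]
  exact def_ideal_span ht

variable (ξ η : K ⊗[k] A)

/-- `K[x, y] → K ⊗ A`, `x ↦ ξ`, `y ↦ η`. -/
noncomputable def φ : K[X][X] →+* K ⊗[k] A := eval₂RingHom (eval₂RingHom (algebraMap K _) ξ) η

lemma φ_monomial (i j : ℕ) (a : K) : φ ξ η (monomial j (monomial i a)) = a • (ξ ^ i * η ^ j) := by
  rw [φ, coe_eval₂RingHom, eval₂_monomial, coe_eval₂RingHom, eval₂_monomial, mul_assoc,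
    Algebra.smul_def]

lemma φ_smul (a : K) (f : K[X][X]) : φ ξ η (a • f) = a • φ ξ η f := by
  induction f using Polynomial.induction_on' with
  | add p q hp hq => rw [smul_add, map_add, hp, hq, map_add, smul_add]
  | monomial n b =>
    induction b using Polynomial.induction_on' with
    | add p q hp hq =>
      rw [map_add, smul_add, map_add, hp, hq, map_add, smul_add]
    | monomial m e =>
      rw [smul_monomial, smul_monomial, φ_monomial, φ_monomial, smul_smul, smul_eq_mul]

variable {ξ η}

/-- `φ` commutes with the actions. -/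
lemma φ_act {F : IntermediateField k K} (hξ : (TA k K A).Rat F ξ) (hη : (TA k K A).Rat F η)
    {μ : K →ₗ[k] K} (hμ : Lin F μ) (f : K[X][X]) :
    (TA k K A).act μ (φ ξ η f) = φ ξ η (Brian.act μ f) := by
  induction f using Polynomial.induction_on' with
  | add p q hp hq => rw [map_add, map_add, hp, hq, map_add, map_add]
  | monomial n b =>
    induction b using Polynomial.induction_on' with
    | add p q hp hq =>
      rw [map_add, map_add, map_add, hp, hq, map_add, map_add]
    | monomial m e =>
      rw [φ_monomial, Brian.act, cmap_monomial, cmap_monomial, φ_monomial]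
      exact rat_mul (rat_pow hξ m) (rat_pow hη n) μ hμ e

/-- `φ` is surjective modulo powers of the maximal ideal. -/
lemma φ_surj_mod (hξ : ξ ∈ mm c) (hη : η ∈ mm c)
    (h : ∀ x : K ⊗[k] A, ∃ a b e : K, x - (a • 1 + b • ξ + e • η) ∈ mm c ^ 2) (n : ℕ)
    (x : K ⊗[k] A) : ∃ f, x - φ ξ η f ∈ mm c ^ n := by
  have key : ∀ n : ℕ, ∀ x ∈ mm c ^ n, ∃ f, φ ξ η f ∈ mm c ^ n ∧ x - φ ξ η f ∈ mm c ^ (n + 1) := by
    intro n
    induction n with
    | zero =>
      intro x _
      refine ⟨C (C (ev c x)), by simp, ?_⟩
      rw [zero_add, pow_one, mm, RingHom.mem_ker, map_sub]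
      simp [φ]
    | succ n ih =>
      intro x hx
      rw [pow_succ] at hx
      induction hx using Submodule.mul_induction_on' with
      | mem_mul_mem m hm l hl =>
        obtain ⟨f, hf1, hf2⟩ := ih m hm
        obtain ⟨a, b, e, habe⟩ := h l
        have ha : a = 0 := by
          have h1 : ev c (l - (a • 1 + b • ξ + e • η)) = 0 := by
            have : l - (a • 1 + b • ξ + e • η) ∈ mm c := Ideal.pow_le_self two_ne_zero habe
            exact this
          have hl' : ev c l = 0 := hl
          have hξ' : ev c ξ = 0 := hξ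
          have hη' : ev c η = 0 := hη
          rw [map_sub, map_add, map_add, map_smul, map_smul, map_smul, hl', hξ', hη', map_one] at h1
          simpa using h1
        subst ha
        have hg : ∃ g, φ ξ η g ∈ mm c ∧ l - φ ξ η g ∈ mm c ^ 2 := by
          refine ⟨b • C X + e • X, ?_, ?_⟩
          · rw [map_add, φ_smul, φ_smul]
            refine add_mem (Submodule.smul_of_tower_mem _ _ ?_) (Submodule.smul_of_tower_mem _ _ ?_)
            · simpa [φ] using hξ
            · simpa [φ] using hη
          · rw [map_add, φ_smul, φ_smul]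
            simpa [φ] using habe
        obtain ⟨g, hg1, hg2⟩ := hg
        refine ⟨f * g, ?_, ?_⟩
        · rw [map_mul, pow_succ]; exact Ideal.mul_mem_mul hf1 hg1
        · have : m * l - φ ξ η (f * g) = m * (l - φ ξ η g) + (m - φ ξ η f) * φ ξ η g := by
            rw [map_mul]; ring
          rw [this]
          refine add_mem ?_ ?_
          · rw [show n + 1 + 1 = n + 2 from rfl, pow_add]
            exact Ideal.mul_mem_mul hm hg2
          · rw [pow_succ]
            exact Ideal.mul_mem_mul hf2 hg1
      | add x _ y _ hx hy =>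
        obtain ⟨f, hf1, hf2⟩ := hx
        obtain ⟨g, hg1, hg2⟩ := hy
        refine ⟨f + g, by rw [map_add]; exact add_mem hf1 hg1, ?_⟩
        have : x + y - φ ξ η (f + g) = (x - φ ξ η f) + (y - φ ξ η g) := by rw [map_add]; ring
        rw [this]; exact add_mem hf2 hg2
  induction n with
  | zero => exact ⟨0, by simp⟩
  | succ n ih =>
    obtain ⟨f, hf⟩ := ih
    obtain ⟨g, hg1, hg2⟩ := key n _ hf
    refine ⟨f + g, ?_⟩
    have : x - φ ξ η (f + g) = x - φ ξ η f - φ ξ η g := by rw [map_add]; ring
    rw [this]; exact hg2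

end Point

end K536.Form
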