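import Groth.Agent.Lefpen.H718.JacRank
import Mathlib.LinearAlgebra.Dual.Lemmas

/-!
# Spanning sets of vector spaces generated by derivations

If `n` differentials of `C` detect all `C`-linear maps `Ω[C⁄k] → F`, then every `F`-vector space
spanned by the values of a `k`-derivation of `C` (over `C → F`) is spanned by `n` of these values.
-/

set_option autoImplicit false

universe u v

namespace K536.GenTwo

open KaehlerDifferential Module

variable {k C F : Type u} [Field k] [CommRing C] [Algebra k C] [Field F] [Algebra k F] [Algebra C F]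
  [IsScalarTower k C F]

/-- The span. -/
lemma span_of_forms {n : ℕ} (β : Fin n → Ω[C⁄k])
    (hβ : ∀ φ : Ω[C⁄k] →ₗ[C] F, (∀ i, φ (β i) = 0) → φ = 0)
    {Q : Type v} [AddCommGroup Q] [Module F Q] (Dq : C → Q)
    (hadd : ∀ a b, Dq (a + b) = Dq a + Dq b)
    (hmul : ∀ a b, Dq (a * b) = algebraMap C F a • Dq b + algebraMap C F b • Dq a)
    (h0 : ∀ r : k, Dq (algebraMap k C r) = 0)
    (hspan : Submodule.span F (Set.range Dq) = ⊤) :
    ∃ q : Fin n → Q, Submodule.span F (Set.range q) = ⊤ := by
  let _ : Module C Q := Module.compHom Q (algebraMap C F)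
  let _ : Module k Q := Module.compHom Q (algebraMap k F)
  have hC : ∀ (c : C) (x : Q), c • x = algebraMap C F c • x := fun _ _ => rfl
  have hk : ∀ (c : k) (x : Q), c • x = algebraMap k F c • x := fun _ _ => rfl
  have : IsScalarTower k C Q := ⟨fun r c x => by
    rw [hC, hC, hk, Algebra.smul_def, map_mul, ← IsScalarTower.algebraMap_apply, smul_smul]⟩
  let Dm : Derivation k C Q := Derivation.mk'
    { toFun := Dq
      map_add' := hadd
      map_smul' := fun r c => by
        rw [Algebra.smul_def, hmul, h0, smul_zero, add_zero, RingHom.id_apply, hk,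
          ← IsScalarTower.algebraMap_apply] }
    (fun x y => hmul x y)
  have hDm : ∀ c, Dm c = Dq c := fun c => rfl
  refine ⟨fun i => Dm.liftKaehlerDifferential (β i), ?_⟩
  by_contra hne
  obtain ⟨τ, hτ, hτ0⟩ := Submodule.exists_dual_map_eq_bot_of_lt_top (lt_top_iff_ne_top.2 hne)
    inferInstance
  let τC : Q →ₗ[C] F :=
    { toFun := τ
      map_add' := τ.map_add
      map_smul' := fun c x => by
        rw [hC, map_smul, RingHom.id_apply, smul_eq_mul, Algebra.smul_def] }
  have h1 : ∀ i, (τC ∘ₗ Dm.liftKaehlerDifferential) (β i) = 0 := by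
    intro i
    have : τ (Dm.liftKaehlerDifferential (β i)) ∈
        (Submodule.span F (Set.range fun i => Dm.liftKaehlerDifferential (β i))).map τ :=
      Submodule.mem_map_of_mem (Submodule.subset_span ⟨i, rfl⟩)
    rw [hτ0, Submodule.mem_bot] at this
    exact this
  have h2 := hβ _ h1
  apply hτ
  ext x
  have hx : x ∈ Submodule.span F (Set.range Dq) := by rw [hspan]; trivial
  induction hx using Submodule.span_induction with
  | mem x hx =>
    obtain ⟨c, rfl⟩ := hx
    have := LinearMap.congr_fun h2 (D k C c)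
    rw [LinearMap.comp_apply, Derivation.liftKaehlerDifferential_comp_D, hDm] at this
    exact this
  | zero => simp
  | add x y _ _ hx hy => rw [map_add, hx, hy, map_add]
  | smul a x _ hx => rw [map_smul, hx, map_smul]

/-- A spanning subset of at most `n` values. -/
lemma exists_values {n : ℕ} {Q : Type v} [AddCommGroup Q] [Module F Q] {C : Type*} (Dq : C → Q)
    (hspan : Submodule.span F (Set.range Dq) = ⊤)
    (q : Fin (n + 1) → Q) (hq : Submodule.span F (Set.range q) = ⊤) (hC : Nonempty C) :
    ∃ b : Fin (n + 1) → C, Submodule.span F (Set.range fun i => Dq (b i)) = ⊤ := by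
  classical
  have hfin : Module.Finite F Q := ⟨⟨Finset.univ.image q, by
    rw [Finset.coe_image, Finset.coe_univ, Set.image_univ, hq]⟩⟩
  have hrk : finrank F Q ≤ n + 1 := by
    have := finrank_range_le_card (R := F) q
    rw [Set.finrank, hq, finrank_top, Fintype.card_fin] at this
    exact this
  obtain ⟨s, hs1, hs2, hs3⟩ := exists_linearIndependent F (Set.range Dq)
  have hsf : s.Finite := hs3.setFinite
  have : Fintype s := hsf.fintype
  have hcard : Fintype.card s ≤ n + 1 := (LinearIndependent.fintype_card_le_finrank hs3).trans hrk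
  have hch : ∀ v : s, ∃ c, Dq c = v := fun v => hs1 v.2
  choose e he using hch
  obtain ⟨c0⟩ := hC
  let f := (Fintype.equivFin s).symm
  refine ⟨fun i => if h : (i : ℕ) < Fintype.card s then e (f ⟨i, h⟩) else c0, ?_⟩
  rw [eq_top_iff, ← hspan, ← hs2, Submodule.span_le]
  intro v hv
  apply Submodule.subset_span
  have hlt : (f.symm ⟨v, hv⟩ : ℕ) < n + 1 := (f.symm ⟨v, hv⟩).2.trans_le hcard
  refine ⟨⟨f.symm ⟨v, hv⟩, hlt⟩, ?_⟩
  have h2 : ((⟨f.symm ⟨v, hv⟩, hlt⟩ : Fin (n + 1)) : ℕ) < Fintype.card s := (f.symm ⟨v, hv⟩).2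
  simp only [h2, dif_pos]
  rw [show f ⟨(f.symm ⟨v, hv⟩ : ℕ), h2⟩ = ⟨v, hv⟩ from f.apply_symm_apply _, he]

end K536.GenTwo
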