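import Groth.Agent.HilbD.K536.Local

/-!
# Fields of definition of ideals of finite colength: the global bound

`K` algebraically closed, `J ≤ K ⊗ A` of finite colength `d`. If every `K`-point of `A` has a field
of definition of transcendence degree at most one and its maximal ideal is generated, modulo its
square, by two elements, then `J` is defined over a field of transcendence degree at most `d`.
-/

set_option autoImplicit false

universe u

namespace K536.Global

open TensorProduct K536.DefOver K536.DefOver.CoeffAct Module K536.Form K536.Local K536.Rk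

variable {k K A : Type u} [Field k] [Field K] [Algebra k K] [CommRing A] [Algebra k A]

/-- Maximal ideals of finite colength are points. -/
lemma exists_point [IsAlgClosed K] (P : Ideal (K ⊗[k] A)) [P.IsMaximal]
    [Module.Finite K ((K ⊗[k] A) ⧸ P)] : ∃ c : A →ₐ[k] K, mm c = P := by
  have : Field ((K ⊗[k] A) ⧸ P) := Ideal.Quotient.field P
  have hb : Function.Bijective (algebraMap K ((K ⊗[k] A) ⧸ P)) :=
    IsAlgClosed.algebraMap_bijective_of_isIntegral
  let e : K ≃ₐ[K] ((K ⊗[k] A) ⧸ P) := AlgEquiv.ofBijective (Algebra.ofId K _) hb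
  let χ : (K ⊗[k] A) →ₐ[K] K := (e.symm : ((K ⊗[k] A) ⧸ P) →ₐ[K] K).comp (Ideal.Quotient.mkₐ K P)
  refine ⟨(χ.restrictScalars k).comp Algebra.TensorProduct.includeRight, ?_⟩
  have h1 : ev ((χ.restrictScalars k).comp Algebra.TensorProduct.includeRight) = χ := by
    apply Algebra.TensorProduct.ext
    · ext
    · ext a
      simp [ev]
  rw [mm, h1]
  ext x
  change e.symm (Ideal.Quotient.mk P x) = 0 ↔ x ∈ P
  rw [map_eq_zero_iff _ e.symm.injective, Ideal.Quotient.eq_zero_iff_mem]

lemma range_subset_FF (c : A →ₐ[k] K) : Set.range c ⊆ FF c :=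
  IntermediateField.subset_adjoin _ _

/-- **The bound.** -/
theorem exists_def_global [IsAlgClosed K] (J : Ideal (K ⊗[k] A))
    [Module.Finite K ((K ⊗[k] A) ⧸ J)]
    (hrk : ∀ c : A →ₐ[k] K, rk k (Set.range c) ≤ 1)
    (hgen : ∀ c : A →ₐ[k] K, J ≤ mm c → ∃ b₁ b₂ : A, ∀ x : K ⊗[k] A, ∃ a b e : K,
      x - (a • 1 + b • δ c b₁ + e • δ c b₂) ∈ mm c ^ 2) :
    ∃ F : IntermediateField k K, (TA k K A).Def F (J.restrictScalars K) ∧
      rk k (F : Set K) ≤ finrank K ((K ⊗[k] A) ⧸ J) := by
  classical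
  set Q := (K ⊗[k] A) ⧸ J with hQ
  have : IsArtinianRing Q := IsArtinianRing.of_finite K Q
  obtain ⟨n, hn⟩ := IsArtinianRing.isNilpotent_nilradical (R := Q)
  set N := n + 1 with hN
  have hn' : nilradical Q ^ N = 0 := by rw [hN, pow_succ, hn, zero_mul]
  have hinf := IsArtinianRing.nilradical_pow_eq_iInf Q N
  rw [hn'] at hinf
  have : Fintype (MaximalSpectrum Q) := Fintype.ofFinite _
  let P : MaximalSpectrum Q → Ideal (K ⊗[k] A) := fun i => i.asIdeal.comap (Ideal.Quotient.mk J)
  have hPm : ∀ i, (P i).IsMaximal := fun i =>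
    Ideal.comap_isMaximal_of_surjective _ Ideal.Quotient.mk_surjective
  have hJP : ∀ i, J ≤ P i := fun i x hx => by
    change Ideal.Quotient.mk J x ∈ i.asIdeal
    rw [Ideal.Quotient.eq_zero_iff_mem.2 hx]; exact Ideal.zero_mem _
  have hfinJ : ∀ I : Ideal (K ⊗[k] A), J ≤ I → Module.Finite K ((K ⊗[k] A) ⧸ I) := fun I hI =>
    Module.Finite.of_surjective (Ideal.Quotient.factorₐ K hI).toLinearMap
      (Ideal.Quotient.factor_surjective hI)
  have hpt : ∀ i, ∃ c : A →ₐ[k] K, mm c = P i := fun i => by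
    have := hfinJ (P i) (hJP i)
    have := hPm i
    exact exists_point (P i)
  choose c hc using hpt
  let I : MaximalSpectrum Q → Ideal (K ⊗[k] A) :=
    fun i => (i.asIdeal ^ N).comap (Ideal.Quotient.mk J)
  have hJI : ∀ i, J ≤ I i := fun i x hx => by
    change Ideal.Quotient.mk J x ∈ i.asIdeal ^ N
    rw [Ideal.Quotient.eq_zero_iff_mem.2 hx]; exact Ideal.zero_mem _
  have hfinI : ∀ i, Module.Finite K ((K ⊗[k] A) ⧸ (I i).restrictScalars K) := fun i => by
    have := hfinJ (I i) (hJI i)
    exact Module.Finite.equiv (Submodule.Quotient.restrictScalarsEquiv K (I i)).symm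
  have hPI : ∀ i, mm (c i) ^ N ≤ I i := fun i => by
    rw [hc, ← Ideal.map_le_iff_le_comap, Ideal.map_pow]
    exact Ideal.pow_right_mono Ideal.map_comap_le N
  have hIP : ∀ i, I i ≤ P i := fun i => Ideal.comap_mono (Ideal.pow_le_self (by omega))
  have hIt : ∀ i, I i ≠ ⊤ := fun i h => (hPm i).ne_top (top_le_iff.1 (h ▸ hIP i))
  have hJeq : J = ⨅ i, I i := by
    apply le_antisymm (le_iInf hJI)
    intro x hx
    rw [← Ideal.Quotient.eq_zero_iff_mem]
    have h1 : Ideal.Quotient.mk J x ∈ ⨅ i : MaximalSpectrum Q, i.asIdeal ^ N := by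
      rw [Ideal.mem_iInf] at hx ⊢
      exact hx
    rw [← hinf] at h1
    exact h1
  have hcop : Pairwise (Function.onFun IsCoprime I) := by
    intro i j hij
    have h1 : IsCoprime (i.asIdeal ^ N) (j.asIdeal ^ N) := (i.isCoprime_of_ne hij).pow
    have h2 : IsCoprime (P i ^ N) (P j ^ N) := by
      apply IsCoprime.pow
      rw [Ideal.isCoprime_iff_sup_eq]
      have := hPm i
      have := hPm j
      apply Ideal.IsMaximal.coprime_of_ne (hPm i) (hPm j)
      intro h
      apply hij
      ext1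
      exact Ideal.comap_injective_of_surjective _ Ideal.Quotient.mk_surjective h
    rw [Function.onFun, Ideal.isCoprime_iff_sup_eq, eq_top_iff]
    rw [Ideal.isCoprime_iff_sup_eq] at h2
    rw [← h2, ← hc, ← hc]
    exact sup_le_sup (hPI i) (hPI j)
  have hdim : ∑ i, finrank K ((K ⊗[k] A) ⧸ (I i).restrictScalars K) ≤ finrank K Q := by
    have h1 : ∀ i, finrank K ((K ⊗[k] A) ⧸ (I i).restrictScalars K) =
        finrank K ((K ⊗[k] A) ⧸ I i) := fun i =>
      (Submodule.Quotient.restrictScalarsEquiv K (I i)).finrank_eq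
    simp_rw [h1]
    have : ∀ i, Module.Finite K ((K ⊗[k] A) ⧸ I i) := fun i => hfinJ _ (hJI i)
    rw [← Module.finrank_pi_fintype K]
    let L : Q →ₗ[K] (∀ i, (K ⊗[k] A) ⧸ I i) :=
      LinearMap.pi fun i => (Ideal.Quotient.factorₐ K (hJI i)).toLinearMap
    refine LinearMap.finrank_le_finrank_of_surjective (f := L) ?_
    intro x
    obtain ⟨r, hr⟩ := Ideal.pi_quotient_surjective hcop x
    refine ⟨Ideal.Quotient.mk J r, ?_⟩
    ext i
    rw [← hr i]
    rfl
  have hloc : ∀ i, ∃ S : Finset K, S.card < finrank K ((K ⊗[k] A) ⧸ (I i).restrictScalars K) ∧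
      (TA k K A).Def (FF (c i) ⊔ IntermediateField.adjoin k (S : Set K))
        ((I i).restrictScalars K) := by
    intro i
    obtain ⟨b₁, b₂, hb⟩ := hgen (c i) (by rw [hc]; exact hJP i)
    have := hfinI i
    exact exists_def_local (c i) (I i) (hIt i) N (hPI i) b₁ b₂ hb
  choose S hS1 hS2 using hloc
  refine ⟨⨆ i ∈ (Finset.univ : Finset (MaximalSpectrum Q)),
    (FF (c i) ⊔ IntermediateField.adjoin k (S i : Set K)), ?_, ?_⟩
  · have hJ' : J.restrictScalars K = ⨅ i, (I i).restrictScalars K := by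
      ext x
      rw [Submodule.mem_iInf]
      exact (SetLike.ext_iff.1 hJeq x).trans Ideal.mem_iInf
    rw [hJ']
    apply Def.iInf
    intro i
    exact (hS2 i).mono (le_iSup₂_of_le i (Finset.mem_univ i) le_rfl)
  · refine (rk_iSup _ _).trans ?_
    have h1 : ∀ i, rk k ((FF (c i) ⊔ IntermediateField.adjoin k (S i : Set K) :
        IntermediateField k K) : Set K) ≤
        (finrank K ((K ⊗[k] A) ⧸ (I i).restrictScalars K) : ℕ∞) := by
      intro i
      refine (rk_sup _ _).trans ?_
      have h2 : rk k (FF (c i) : Set K) ≤ 1 := (rk_adjoin _).trans (hrk (c i))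
      have h3 : rk k (IntermediateField.adjoin k (S i : Set K) : Set K) ≤ ((S i).card : ℕ∞) := by
        refine (rk_adjoin _).trans ((rk_le_encard _).trans ?_)
        rw [Set.encard_coe_eq_coe_finsetCard]
      refine (add_le_add h2 h3).trans ?_
      have h4 := hS1 i
      have h5 : 1 + (S i).card ≤ finrank K ((K ⊗[k] A) ⧸ (I i).restrictScalars K) := by omega
      exact_mod_cast h5
    refine (Finset.sum_le_sum fun i _ => h1 i).trans ?_
    rw [← Nat.cast_sum]
    exact_mod_cast hdim

end K536.Global
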