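import Mathlib.RingTheory.AlgebraicIndependent.TranscendenceBasis
import Mathlib.Combinatorics.Matroid.Rank.ENat
import Mathlib.FieldTheory.IntermediateField.Adjoin.Basic
import Mathlib.RingTheory.Algebraic.Integral
import Mathlib.SetTheory.Cardinal.Arithmetic

/-!
# Transcendence degrees of composites via the matroid of algebraic independence
-/

set_option autoImplicit false

universe u

namespace K536.Rk

open AlgebraicIndependent Subalgebra

variable {k K : Type u} [Field k] [Field K] [Algebra k K]

variable (k) in
/-- Transcendence degree of a subset. -/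
noncomputable def rk (s : Set K) : ℕ∞ := (matroid k K).eRk s

lemma adjoin_subset_closure (s : Set K) :
    (IntermediateField.adjoin k s : Set K) ⊆ (matroid k K).closure s := by
  rw [matroid_closure_eq]
  intro x hx
  change x ∈ algebraicClosure (Algebra.adjoin k s) K
  have hx' : x ∈ IntermediateField.adjoin k s := hx
  clear hx
  induction hx' using IntermediateField.adjoin_induction with
  | mem x hx =>
    rw [mem_algebraicClosure]
    exact isAlgebraic_algebraMap (⟨x, Algebra.subset_adjoin hx⟩ : Algebra.adjoin k s)
  | algebraMap x =>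
    rw [mem_algebraicClosure]
    exact isAlgebraic_algebraMap (algebraMap k (Algebra.adjoin k s) x)
  | add x y _ _ hx hy => exact add_mem hx hy
  | mul x y _ _ hx hy => exact mul_mem hx hy
  | inv x _ hx =>
    rw [mem_algebraicClosure] at hx ⊢
    exact hx.inv

lemma rk_mono {s t : Set K} (h : s ⊆ t) : rk k s ≤ rk k t := (matroid k K).eRk_mono h

lemma rk_adjoin (s : Set K) : rk k (IntermediateField.adjoin k s : Set K) ≤ rk k s := by
  rw [rk, rk, ← Matroid.eRk_closure_eq _ s]
  exact (matroid k K).eRk_mono (adjoin_subset_closure s)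

lemma rk_le_encard (s : Set K) : rk k s ≤ s.encard := (matroid k K).eRk_le_encard s

lemma rk_sup (F F' : IntermediateField k K) :
    rk k ((F ⊔ F' : IntermediateField k K) : Set K) ≤ rk k (F : Set K) + rk k (F' : Set K) := by
  have h : F ⊔ F' ≤ IntermediateField.adjoin k ((F : Set K) ∪ F') := by
    refine sup_le ?_ ?_
    · exact fun x hx => IntermediateField.subset_adjoin _ _ (Or.inl hx)
    · exact fun x hx => IntermediateField.subset_adjoin _ _ (Or.inr hx)
  refine (rk_mono (k := k) (SetLike.coe_subset_coe.2 h)).trans ((rk_adjoin _).trans ?_)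
  exact (matroid k K).eRk_union_le_eRk_add_eRk _ _

lemma rk_bot : rk k ((⊥ : IntermediateField k K) : Set K) = 0 := by
  have h : (⊥ : IntermediateField k K) = IntermediateField.adjoin k (∅ : Set K) := by simp
  rw [h]
  apply le_antisymm _ bot_le
  refine (rk_adjoin _).trans ((rk_le_encard _).trans ?_)
  simp

lemma rk_iSup {ι : Type*} (s : Finset ι) (F : ι → IntermediateField k K) :
    rk k ((⨆ i ∈ s, F i : IntermediateField k K) : Set K) ≤ ∑ i ∈ s, rk k (F i : Set K) := by
  classical
  induction s using Finset.induction_on with
  | empty => simp [rk_bot]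
  | insert i s hi ih =>
    rw [Finset.sum_insert hi, Finset.iSup_insert]
    exact (rk_sup _ _).trans (add_le_add le_rfl ih)

/-- The transcendence degree of a subfield is bounded by its rank. -/
theorem trdeg_le {F : IntermediateField k K} {n : ℕ} (h : rk k (F : Set K) ≤ n) :
    Algebra.trdeg k F ≤ n := by
  obtain ⟨s, hs⟩ := exists_isTranscendenceBasis k F
  have h1 : Cardinal.mk s = Algebra.trdeg k F := hs.cardinalMk_eq_trdeg
  have h2 : (matroid k K).Indep (Subtype.val '' s) := by
    rw [matroid_indep_iff]
    have h3 : AlgebraicIndependent k (fun x : s => ((x : F) : K)) := hs.1.map' (f := F.val)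
      F.val.toRingHom.injective
    have h4 := h3.to_subtype_range
    rw [AlgebraicIndepOn]
    have h5 : Set.range (fun x : s => ((x : F) : K)) = Subtype.val '' s := by
      ext y; simp
    rw [h5] at h4
    exact h4
  have h3 : (Subtype.val '' s : Set K).encard ≤ n :=
    (h2.encard_le_eRk_of_subset (X := (F : Set K)) (by rintro _ ⟨x, -, rfl⟩; exact x.2)).trans h
  rw [Subtype.val_injective.encard_image] at h3
  rw [← h1]
  rwa [← Set.toENat_cardinalMk, Cardinal.toENat_le_natCast] at h3

/-- Conversely, the rank of a subalgebra is bounded by its transcendence degree. -/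
theorem rk_range_le {A : Type*} [CommRing A] [Algebra k A] (c : A →ₐ[k] K) {n : ℕ}
    (h : Algebra.trdeg k c.range ≤ n) : rk k (Set.range c) ≤ n := by
  obtain ⟨s, hs⟩ := exists_isTranscendenceBasis k c.range
  have h1 : Cardinal.mk s = Algebra.trdeg k c.range := hs.cardinalMk_eq_trdeg
  have h2 : Set.range c ⊆ (matroid k K).closure (Subtype.val '' s) := by
    rintro _ ⟨a, rfl⟩
    rw [matroid_closure_eq]
    change _ ∈ algebraicClosure _ K
    rw [mem_algebraicClosure]
    have h3 := hs.isAlgebraic
    have h4 : IsAlgebraic (Algebra.adjoin k (Set.range ((↑) : s → c.range)))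
      (⟨c a, a, rfl⟩ : c.range) := h3.1 _
    rw [Subtype.range_coe] at h4
    obtain ⟨p, hp, hp'⟩ := h4
    have hmap : ∀ x : c.range, x ∈ Algebra.adjoin k s →
        (x : K) ∈ Algebra.adjoin k (Subtype.val '' s : Set K) := by
      intro x hx
      have := AlgHom.map_adjoin c.range.val s
      have h5 : (c.range.val x) ∈ (Algebra.adjoin k s).map c.range.val := ⟨x, hx, rfl⟩
      rw [this] at h5
      exact h5
    let g : Algebra.adjoin k s →+* Algebra.adjoin k (Subtype.val '' s : Set K) :=
      { toFun := fun x => ⟨(x : c.range), hmap x x.2⟩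
        map_one' := rfl
        map_mul' := fun _ _ => rfl
        map_zero' := rfl
        map_add' := fun _ _ => rfl }
    have hg : Function.Injective g := by
      intro x y hxy
      have : ((g x : Algebra.adjoin k (Subtype.val '' s : Set K)) : K) = g y := by rw [hxy]
      exact Subtype.ext (Subtype.ext this)
    refine ⟨p.map g, (Polynomial.map_ne_zero_iff hg).2 hp, ?_⟩
    rw [Polynomial.aeval_def, Polynomial.eval₂_map]
    have h6 := congrArg c.range.val hp'
    rw [Polynomial.aeval_def, map_zero] at h6
    change (c.range.val : c.range →+* K) _ = _ at h6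
    rw [Polynomial.hom_eval₂] at h6
    exact h6
  have h3 : (Subtype.val '' s : Set K).encard ≤ n := by
    rw [Subtype.val_injective.encard_image]
    rw [← h1] at h
    rwa [← Set.toENat_cardinalMk, Cardinal.toENat_le_natCast]
  calc rk k (Set.range c) ≤ rk k ((matroid k K).closure (Subtype.val '' s)) := rk_mono h2
    _ = rk k (Subtype.val '' s) := (matroid k K).eRk_closure_eq _
    _ ≤ (Subtype.val '' s : Set K).encard := rk_le_encard _
    _ ≤ n := h3

end K536.Rk
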