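import Groth.Agent.HilbD.K536.Form
import Groth.Agent.HilbD.K536.GenTwo
import Groth.Agent.HilbD.K536.Rk
import Mathlib.FieldTheory.IsAlgClosed.Basic
import Mathlib.RingTheory.Artinian.Ring
import Mathlib.RingTheory.Ideal.Quotient.Operations

/-!
# Fields of definition of ideals of finite colength on a curve on a smooth surface
-/

set_option autoImplicit false

universe u

namespace K536.Local

open Pointwise TensorProduct Polynomial K536.DefOver K536.DefOver.CoeffAct Module K536.Brian K536.Form K536.Rk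

variable {k K A : Type u} [Field k] [Field K] [Algebra k K] [CommRing A] [Algebra k A]

/-- Punctual ideals. -/
theorem exists_def_local (c : A →ₐ[k] K) (J : Ideal (K ⊗[k] A)) (hJ : J ≠ ⊤) (N : ℕ)
    (hN : mm c ^ N ≤ J) [Module.Finite K ((K ⊗[k] A) ⧸ J.restrictScalars K)] (b₁ b₂ : A)
    (h : ∀ x : K ⊗[k] A, ∃ a b e : K, x - (a • 1 + b • δ c b₁ + e • δ c b₂) ∈ mm c ^ 2) :
    ∃ S : Finset K, S.card < finrank K ((K ⊗[k] A) ⧸ J.restrictScalars K) ∧
      (TA k K A).Def (FF c ⊔ IntermediateField.adjoin k (S : Set K)) (J.restrictScalars K) := by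
  set ξ := δ c b₁ with hξdef
  set η := δ c b₂ with hηdef
  have hξ : ξ ∈ mm c := δ_mem c b₁
  have hη : η ∈ mm c := δ_mem c b₂
  let φL : K[X][X] →ₗ[K] K ⊗[k] A :=
    { toFun := φ ξ η
      map_add' := fun x y => map_add _ x y
      map_smul' := fun a x => φ_smul ξ η a x }
  let J' : Ideal K[X][X] := J.comap (φ ξ η)
  have hJ' : J'.restrictScalars K = (J.restrictScalars K).comap φL := rfl
  let ψ : (K[X][X] ⧸ J'.restrictScalars K) →ₗ[K] ((K ⊗[k] A) ⧸ J.restrictScalars K) :=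
    Submodule.mapQ _ _ φL hJ'.le
  have hψ : Function.Injective ψ := by
    rw [← LinearMap.ker_eq_bot, Submodule.ker_mapQ, hJ', ← hJ', Submodule.mkQ_map_self]
  have hfin : Module.Finite K (K[X][X] ⧸ J'.restrictScalars K) := Module.Finite.of_injective ψ hψ
  have hrank : finrank K (K[X][X] ⧸ J'.restrictScalars K) ≤
      finrank K ((K ⊗[k] A) ⧸ J.restrictScalars K) :=
    LinearMap.finrank_le_finrank_of_injective hψ
  have hJ't : J' ≠ ⊤ := by
    intro ht
    apply hJ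
    rw [Ideal.eq_top_iff_one] at ht ⊢
    have : φ ξ η 1 ∈ J := ht
    rwa [map_one] at this
  have hX : (X : K[X][X]) ^ N ∈ J' := by
    change φ ξ η (X ^ N) ∈ J
    rw [map_pow]
    apply hN
    apply Ideal.pow_mem_pow
    simpa [φ] using hη
  have hCX : (C (X ^ N) : K[X][X]) ∈ J' := by
    change φ ξ η (C (X ^ N)) ∈ J
    rw [C_pow, map_pow]
    apply hN
    apply Ideal.pow_mem_pow
    simpa [φ] using hξ
  obtain ⟨S, hS1, hS2⟩ := exists_def (k := k) hJ't hX hCX
  refine ⟨S, hS1.trans_le hrank, ?_⟩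
  intro μ hμ x hx
  obtain ⟨f, hf⟩ := φ_surj_mod c hξ hη h N x
  have hfJ : f ∈ J' := by
    change φ ξ η f ∈ J
    have : φ ξ η f = x - (x - φ ξ η f) := by ring
    rw [this]; exact sub_mem hx (hN hf)
  have h1 : (TA k K A).act μ x = φ ξ η (Brian.act μ f) + (TA k K A).act μ (x - φ ξ η f) := by
    rw [← φ_act (rat_δ c b₁) (rat_δ c b₂) (hμ.mono le_sup_left) f, ← map_add]
    congr 1; ring
  rw [h1]
  refine add_mem ?_ ?_
  · exact hS2 μ (hμ.mono le_sup_right) f hfJ
  · exact hN (def_mm_pow c N μ (hμ.mono le_sup_left) _ hf)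

/-- Two local parameters. -/
theorem exists_gen {D : Type u} [CommRing D] [Algebra k D] (π : D →ₐ[k] A)
    (hπ : Function.Surjective π) (c : A →ₐ[k] K) [Algebra D K] [IsScalarTower k D K]
    (hD : ∀ d, algebraMap D K d = c (π d)) (β : Fin 2 → Ω[D⁄k])
    (hβ : ∀ φ : Ω[D⁄k] →ₗ[D] K, (∀ i, φ (β i) = 0) → φ = 0) :
    ∃ b₁ b₂ : A, ∀ x : K ⊗[k] A, ∃ a b e : K,
      x - (a • 1 + b • δ c b₁ + e • δ c b₂) ∈ mm c ^ 2 := by
  set W : Submodule K (K ⊗[k] A) := Submodule.span K {1} ⊔ (mm c ^ 2).restrictScalars K with hW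
  let Dq : D → (K ⊗[k] A) ⧸ W := fun d => W.mkQ ((1 : K) ⊗ₜ[k] π d)
  have hspan : Submodule.span K (Set.range Dq) = ⊤ := by
    have h1 : Set.range Dq = W.mkQ '' (Set.range fun a : A => (1 : K) ⊗ₜ[k] a) := by
      ext y
      constructor
      · rintro ⟨d, rfl⟩; exact ⟨_, ⟨π d, rfl⟩, rfl⟩
      · rintro ⟨_, ⟨a, rfl⟩, rfl⟩
        obtain ⟨d, rfl⟩ := hπ a
        exact ⟨d, rfl⟩
    have h2 : Submodule.span K (Set.range fun a : A => (1 : K) ⊗ₜ[k] a) = ⊤ :=
      (TA k K A).span_gen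
    rw [h1, ← Submodule.map_span, h2, Submodule.map_top, Submodule.range_mkQ]
  have hone : ∀ a : K, a • (1 : K ⊗[k] A) ∈ W := fun a =>
    Submodule.smul_mem _ _ (Submodule.mem_sup_left (Submodule.subset_span rfl))
  obtain ⟨q, hq⟩ := GenTwo.span_of_forms (k := k) (C := D) (F := K) β hβ Dq
    (fun a b => by simp only [Dq, map_add, tmul_add])
    (fun a b => by
      have hz : (1 : K) ⊗ₜ[k] π (a * b) - (algebraMap D K a • ((1 : K) ⊗ₜ[k] π b) +
          algebraMap D K b • ((1 : K) ⊗ₜ[k] π a)) =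
          δ c (π a) * δ c (π b) - (c (π a) * c (π b)) • (1 : K ⊗[k] A) := by
        rw [hD, hD, δ, δ, map_mul, Algebra.TensorProduct.one_def]
        simp only [smul_tmul', smul_eq_mul, mul_one, mul_sub, sub_mul,
          Algebra.TensorProduct.tmul_mul_tmul, one_mul]
        ring
      change W.mkQ _ = _ • W.mkQ _ + _ • W.mkQ _
      rw [← map_smul, ← map_smul, ← map_add, ← sub_eq_zero, ← map_sub, hz]
      refine (Submodule.Quotient.mk_eq_zero W).2 (sub_mem (Submodule.mem_sup_right ?_) (hone _))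
      rw [pow_two]
      exact Ideal.mul_mem_mul (δ_mem c _) (δ_mem c _))
    (fun r => by
      refine (Submodule.Quotient.mk_eq_zero W).2 ?_
      have : (1 : K) ⊗ₜ[k] π (algebraMap k D r) = algebraMap k K r • (1 : K ⊗[k] A) := by
        rw [AlgHom.commutes, Algebra.TensorProduct.one_def, smul_tmul', smul_eq_mul, mul_one,
          Algebra.algebraMap_eq_smul_one, ← smul_tmul, Algebra.algebraMap_eq_smul_one]
      rw [this]; exact hone _)
    hspan
  obtain ⟨b, hb⟩ := GenTwo.exists_values (F := K) Dq hspan q hq ⟨0⟩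
  refine ⟨π (b 0), π (b 1), fun x => ?_⟩
  have hx : W.mkQ x ∈ Submodule.span K (Set.range fun i => Dq (b i)) := by rw [hb]; trivial
  obtain ⟨s, hs⟩ := (Submodule.mem_span_range_iff_exists_fun K).1 hx
  rw [Fin.sum_univ_two] at hs
  have h1 : x - (s 0 • ((1 : K) ⊗ₜ[k] π (b 0)) + s 1 • ((1 : K) ⊗ₜ[k] π (b 1))) ∈ W := by
    rw [← Submodule.Quotient.mk_eq_zero]
    change W.mkQ _ = 0
    rw [map_sub, map_add, map_smul, map_smul, sub_eq_zero]
    exact hs.symm
  obtain ⟨y, hy, z, hz, hyz⟩ := Submodule.mem_sup.1 h1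
  obtain ⟨a, rfl⟩ := Submodule.mem_span_singleton.1 hy
  refine ⟨a + s 0 * c (π (b 0)) + s 1 * c (π (b 1)), s 0, s 1, ?_⟩
  have h2 : x - ((a + s 0 * c (π (b 0)) + s 1 * c (π (b 1))) • (1 : K ⊗[k] A) +
      s 0 • δ c (π (b 0)) + s 1 • δ c (π (b 1))) = z := by
    have h3 : ∀ e : A, (1 : K) ⊗ₜ[k] e = δ c e + c e • (1 : K ⊗[k] A) := by
      intro e
      rw [δ, Algebra.TensorProduct.one_def, smul_tmul', smul_eq_mul, mul_one, sub_add_cancel]
    have h4 : x = a • 1 + z + (s 0 • ((1 : K) ⊗ₜ[k] π (b 0)) + s 1 • ((1 : K) ⊗ₜ[k] π (b 1))) := by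
      rw [hyz]; ring
    rw [h4, h3, h3, smul_add, smul_add, smul_smul, smul_smul, add_smul, add_smul]
    ring
  rw [h2]
  exact hz

end K536.Local
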