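import Groth.Agent.HilbD.K536.AlgLow
import Groth.Agent.Ega4B.DimFT
import Groth.Prelude.Def_FGA
import Mathlib.RingTheory.Ideal.KrullsHeightTheorem

/-!
# Hilbert schemes of points of curves on surfaces: the lower bound for the dimension
-/

set_option autoImplicit false
set_option backward.isDefEq.respectTransparency false

universe u

open CategoryTheory CategoryTheory.Limits AlgebraicGeometry TensorProduct

namespace K536.Lower

open Groth.Agent.Picfga.HilbPull Groth.Agent.Picfga.HilbTriple Groth.Agent.Picfga.SecGraph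
  Groth.Agent.Picfga.HilbRep Groth.Agent.Sga4h.GeoDim K221.AffPt K221.FldPt

section Alg

variable {k : Type u} [Field k]

/-- A curve on a surface has a non-algebraic component. -/
theorem exists_transcendental {D A : Type u} [CommRing D] [IsDomain D] [Algebra k D]
    [Algebra.FiniteType k D] [CommRing A] [Nontrivial A] [Algebra k A] (htr : Algebra.trdeg k D = 2)
    (π : D →ₐ[k] A) (hπ : Function.Surjective π) (a : D) (ha : a ≠ 0)
    (hker : RingHom.ker π = Ideal.span {a}) :
    ∃ (P : Ideal A) (_ : P.IsPrime) (t : A), Transcendental k (Ideal.Quotient.mk P t) ∧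
      Algebra.trdeg k (A ⧸ P) ≤ 1 := by
  have hN : IsNoetherianRing D := Algebra.FiniteType.isNoetherianRing k D
  obtain ⟨n, hn1, hn2⟩ := Groth.Agent.Ega4B.DimFT.exists_trdeg_eq_and_height_eq k D
  have hn : n = 2 := by
    have : (n : Cardinal.{u}) = 2 := hn1.symm.trans htr
    exact_mod_cast this
  subst hn
  have hne : Ideal.span {a} ≠ ⊤ := by
    intro h
    have h1 : (1 : D) ∈ RingHom.ker π := by rw [hker, h]; trivial
    rw [RingHom.mem_ker, map_one] at h1
    exact one_ne_zero h1
  obtain ⟨P', hP'⟩ := Ideal.nonempty_minimalPrimes hne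
  have hP'p : P'.IsPrime := hP'.1.1
  have hle : Ideal.span {a} ≤ P' := hP'.1.2
  have hh : P'.height ≤ 1 := Ideal.height_le_one_of_isPrincipal_of_mem_minimalPrimes _ P' hP'
  have hmax : ¬ P'.IsMaximal := by
    intro hm
    rw [hn2 P'] at hh
    exact absurd hh (by norm_num)
  have hkP : RingHom.ker (π : D →+* A) ≤ P' := by
    have : RingHom.ker (π : D →+* A) = RingHom.ker π := rfl
    rw [this, hker]; exact hle
  have hPp : (P'.map (π : D →+* A)).IsPrime := Ideal.map_isPrime_of_surjective hπ hkP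
  have hcomap : (P'.map (π : D →+* A)).comap (π : D →+* A) = P' := by
    have hπ' : Function.Surjective (π : D →+* A) := hπ
    rw [Ideal.comap_map_of_surjective (π : D →+* A) hπ']
    exact sup_eq_left.2 hkP
  have hft : Algebra.FiniteType k A := Algebra.FiniteType.of_surjective π hπ
  have hdimD : ringKrullDim D ≤ 2 :=
    (Groth.Agent.Ega4B.DimFT.ringKrullDim_eq_of_forall_isMaximal 2 hn2).le
  have hdimA : ringKrullDim A ≤ 1 := AlgUp.dim_le_one hdimD π hπ (by
    rw [hker, Ne, Ideal.span_singleton_eq_bot]; exact ha)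
  refine ⟨P'.map (π : D →+* A), hPp, ?_⟩
  have htr' : Algebra.trdeg k (A ⧸ P'.map (π : D →+* A)) ≤ 1 := by
    have := Groth.Agent.Flat2F.TrdegDim.trdeg_quotient_le (K := k) (P'.map (π : D →+* A)) 1
      (by exact_mod_cast hdimA)
    exact_mod_cast this
  by_contra hcon
  push Not at hcon
  have halg : Algebra.IsAlgebraic k (A ⧸ P'.map (π : D →+* A)) := by
    refine ⟨fun x => ?_⟩
    obtain ⟨t, rfl⟩ := Ideal.Quotient.mk_surjective x
    by_contra h
    exact absurd htr' (not_le.2 (hcon t h))
  have hfield : IsField (A ⧸ P'.map (π : D →+* A)) :=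
    isField_of_isIntegral_of_isField' (R := k) (Field.toIsField k)
  have hm := Ideal.Quotient.maximal_of_isField _ hfield
  apply hmax
  rw [← hcomap]
  exact Ideal.comap_isMaximal_of_surjective _ hπ

end Alg

variable {k : Type u} [Field k] {S : Scheme.{u}} (g : S ⟶ Spec (CommRingCat.of k))
  [LocallyOfFiniteType g] [IsIntegral S] (hdim : topologicalKrullDim S = 2)
  (I : S.IdealSheafData) (hI : FGA.IsEffCartier I)
  {f : I.subscheme ⟶ Spec (CommRingCat.of k)} [IsSeparated f] (hf : f = I.subschemeι ≫ g)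
  {d : ℕ} {H : Over (Spec (CommRingCat.of k))} [LocallyOfFiniteType H.hom] {Z : HilbD.Obj f d H}

omit [IsSeparated f] in
include hdim in
lemma trdegAt_genericPoint : trdegAt g (genericPoint S) = 2 := by
  obtain ⟨n, h1, h2⟩ := exists_dim_closure g (genericPoint S)
  have h3 : closure {genericPoint S} = (Set.univ : Set S) := genericPoint_closure S
  rw [h3, (Homeomorph.Set.univ S).isHomeomorph.topologicalKrullDim_eq, hdim] at h2
  have h4 : n = 2 := by
    have : ((2 : ℕ) : WithBot ℕ∞) = n := by exact_mod_cast h2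
    exact_mod_cast this.symm
  rw [h1, h4]; norm_num

include hdim hI hf in
/-- **The lower bound.** -/
theorem le_dim (hZ : HilbD.IsUniversal f d H Z) (x₀ : I.subscheme) :
    (d : WithBot ℕ∞) ≤ topologicalKrullDim H.left := by
  classical
  obtain ⟨⟨U, hU⟩, hyU, a, ha, hIa⟩ := hI (I.subschemeι x₀)
  have hyU' : I.subschemeι x₀ ∈ U := hyU
  have hV : IsAffineOpen (I.subschemeι ⁻¹ᵁ U) := hU.preimage I.subschemeι
  obtain ⟨φ, hφ⟩ := Spec.map_surjective (hU.fromSpec ≫ g)
  have hne : Nonempty U := ⟨⟨_, hyU'⟩⟩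
  have hneV : Nonempty (I.subschemeι ⁻¹ᵁ U) := ⟨⟨x₀, hyU'⟩⟩
  let D : Type u := Γ(S, U)
  let A : Type u := Γ(I.subscheme, I.subschemeι ⁻¹ᵁ U)
  have hntA : Nontrivial A := inferInstanceAs (Nontrivial Γ(I.subscheme, I.subschemeι ⁻¹ᵁ U))
  have hntD : IsDomain D := inferInstance
  let _ : Algebra k D := φ.hom.toAlgebra
  let _ : Algebra k A := ((I.subschemeι.app U).hom.comp φ.hom).toAlgebra
  let π : D →ₐ[k] A := { (I.subschemeι.app U).hom with commutes' := fun _ => rfl }
  have hπ : Function.Surjective π := I.subschemeι.app_surjective U hU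
  have hker : RingHom.ker π = Ideal.span {a} := by
    have h2 := I.ker_subschemeι_app ⟨U, hU⟩
    rw [← hIa, ← h2]; rfl
  let j : Spec (CommRingCat.of A) ⟶ I.subscheme := hV.fromSpec
  have hj : j ≫ f = Spec.map (CommRingCat.ofHom (algebraMap k A)) := by
    have h1 := hU.SpecMap_appLE_fromSpec I.subschemeι hV le_rfl
    change hV.fromSpec ≫ f = _
    rw [hf, ← Category.assoc, ← h1, Category.assoc, ← hφ, ← Spec.map_comp]
    congr 1
    rw [← Scheme.Hom.app_eq_appLE]
    rfl
  have hft : Algebra.FiniteType k D := by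
    have h1 : LocallyOfFiniteType (Spec.map φ) := by
      rw [hφ]
      infer_instance
    exact (HasRingHomProperty.Spec_iff (P := @LocallyOfFiniteType)).1 h1
  have htr : Algebra.trdeg k D = 2 := by
    have h1 := trdegAt_comp hU.fromSpec g (genericPoint (Spec Γ(S, U)))
    rw [trdegAt_eq_zero_of_isPreimmersion hU.fromSpec, add_zero, genericPoint_eq_of_isOpenImmersion,
      trdegAt_genericPoint g hdim, ← hφ, trdegAt_genericPoint_Spec φ (φ.hom.injective)] at h1
    rw [← h1]
    exact (Groth.Agent.CycB.TrdegAlg.trd_algebraMap (K := k) (L := D)).symm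
  obtain ⟨P, _, t, ht, htP⟩ := exists_transcendental htr π hπ a (nonZeroDivisors.ne_zero ha) hker
  obtain ⟨K, _, _, J, hJ1, hJ2, hJ3⟩ := AlgLow.exists_ideal P t ht htP d
  have hJ : Mor2.IsFinLocFreeOfDeg d (zpi J) := (isFinLocFreeOfDeg_zpi_iff J).2 ⟨hJ1, hJ2⟩
  obtain ⟨F, hF, htF⟩ := exists_defOver j hj hZ J hJ
  apply le_topologicalKrullDim H.hom (x := K221.FldPt.im j hj hZ J hJ)
  rw [htF]
  exact hJ3 F hF

end K536.Lower
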