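import Groth.Agent.HilbD.K536.AlgUp
import Groth.Agent.HilbD.K221.FldPt

/-!
# Hilbert schemes of points of curves on smooth surfaces: the upper bound for the dimension
-/

set_option autoImplicit false
set_option backward.isDefEq.respectTransparency false

universe u

open CategoryTheory CategoryTheory.Limits AlgebraicGeometry TensorProduct

namespace K536.Upper

open Groth.Agent.Picfga.HilbPull Groth.Agent.Picfga.HilbTriple Groth.Agent.Picfga.SecGraph
  Groth.Agent.Picfga.HilbRep Groth.Agent.Sga4h.GeoDim K221.AffPt K221.FldPt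

variable {k : Type u} [Field k] {S : Scheme.{u}} (g : S ⟶ Spec (CommRingCat.of k))
  [LocallyOfFiniteType g] [IsIntegral S] [SmoothOfRelativeDimension 2 g] (hdim : topologicalKrullDim S ≤ 2)
  (hFA : ∀ T : Set S, T.Finite → ∃ U : S.Opens, IsAffineOpen U ∧ T ⊆ U)
  (I : S.IdealSheafData) (hI : genericPoint S ∉ I.support)
  {f : I.subscheme ⟶ Spec (CommRingCat.of k)} [IsSeparated f] (hf : f = I.subschemeι ≫ g)
  {d : ℕ} {H : Over (Spec (CommRingCat.of k))} {Z : HilbD.Obj f d H}

omit [LocallyOfFiniteType g] [IsIntegral S] [SmoothOfRelativeDimension 2 g] in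
/-- Points of `H` with values in an algebraically closed field. -/
lemma exists_geom_pt (h : H.left) : ∃ (K : Type u) (_ : Field K) (_ : IsAlgClosed K)
    (_ : Algebra k K) (y : T k K ⟶ H), y.left (o K) = h := by
  obtain ⟨φ, hφ⟩ := Spec.map_surjective (H.left.fromSpecResidueField h ≫ H.hom)
  let L : Type u := H.left.residueField h
  let _ : Algebra k L := φ.hom.toAlgebra
  let K := AlgebraicClosure L
  let y : T k K ⟶ H := Over.homMk (Spec.map (CommRingCat.ofHom (algebraMap L K)) ≫
    H.left.fromSpecResidueField h) (by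
      change (Spec.map (CommRingCat.ofHom (algebraMap L K)) ≫ _) ≫ _ = Spec.map _
      rw [Category.assoc, ← hφ, ← Spec.map_comp]
      congr 1)
  refine ⟨K, inferInstance, inferInstance, inferInstance, y, ?_⟩
  change (Spec.map (CommRingCat.ofHom (algebraMap L K)) ≫ H.left.fromSpecResidueField h) _ = h
  rw [Scheme.Hom.comp_apply]
  exact H.left.fromSpecResidueField_apply h _

include hdim hFA hI hf in
/-- **The upper bound.** -/
theorem trdegAt_le (hZ : HilbD.IsUniversal f d H Z) (h : H.left) :
    trdegAt H.hom h ≤ (d : Cardinal.{u}) := by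
  classical
  obtain ⟨K, _, _, _, y, rfl⟩ := exists_geom_pt h
  -- the support of the corresponding closed subscheme
  have hfin : IsFinite (pi f (pullObj f y Z).1) := (pullObj f y Z).2.1.1
  have hW : Finite (pullObj f y Z).1.subscheme := by
    have h1 := (pi f (pullObj f y Z).1).finite_preimage_singleton (o K)
    have h2 : (pi f (pullObj f y Z).1) ⁻¹' {o K} = Set.univ :=
      Set.eq_univ_of_forall fun z => eq_o _
    rw [h2] at h1
    exact Set.finite_univ_iff.1 h1
  have hT : (Set.range (qq f (pullObj f y Z).1 ≫ I.subschemeι)).Finite := Set.finite_range _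
  obtain ⟨U, hU, hTU⟩ := hFA (insert (genericPoint S) (Set.range (qq f (pullObj f y Z).1 ≫ I.subschemeι)))
    (hT.insert _)
  have hgU : genericPoint S ∈ U := hTU (Set.mem_insert _ _)
  have hV : IsAffineOpen (I.subschemeι ⁻¹ᵁ U) := hU.preimage I.subschemeι
  obtain ⟨φ, hφ⟩ := Spec.map_surjective (hU.fromSpec ≫ g)
  have hne : Nonempty U := ⟨⟨_, hgU⟩⟩
  let D : Type u := Γ(S, U)
  let A : Type u := Γ(I.subscheme, I.subschemeι ⁻¹ᵁ U)
  let _ : Algebra k D := φ.hom.toAlgebra
  let _ : Algebra k A := ((I.subschemeι.app U).hom.comp φ.hom).toAlgebra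
  let π : D →ₐ[k] A := { (I.subschemeι.app U).hom with commutes' := fun _ => rfl }
  have hπ : Function.Surjective π := I.subschemeι.app_surjective U hU
  have hker : RingHom.ker π ≠ ⊥ := by
    intro h0
    have h1 : RingHom.ker (I.subschemeι.app U).hom = ⊥ := h0
    have h2 := I.ker_subschemeι_app ⟨U, hU⟩
    apply hI
    have h3 := I.coe_support_inter ⟨U, hU⟩
    have h4 : genericPoint S ∈ (I.support : Set S) ∩ (U : Set S) := by
      rw [h3, ← h2]
      refine ⟨?_, hgU⟩
      rw [h1]
      simp
    exact h4.1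
  let j : Spec (CommRingCat.of A) ⟶ I.subscheme := hV.fromSpec
  have hj : j ≫ f = Spec.map (CommRingCat.ofHom (algebraMap k A)) := by
    have h1 := hU.SpecMap_appLE_fromSpec I.subschemeι hV le_rfl
    change hV.fromSpec ≫ f = _
    rw [hf, ← Category.assoc, ← h1, Category.assoc, ← hφ, ← Spec.map_comp]
    congr 1
    rw [← Scheme.Hom.app_eq_appLE]
    rfl
  obtain ⟨J, hJ, hyJ⟩ := exists_eq_pt j hj hZ y (by
    intro z
    have h1 : (qq f (pullObj f y Z).1 ≫ I.subschemeι) z ∈ U :=
      hTU (Set.mem_insert_of_mem _ ⟨z, rfl⟩)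
    rw [Scheme.Hom.comp_apply] at h1
    change _ ∈ Set.range hV.fromSpec
    rw [hV.range_fromSpec]
    exact h1)
  have him : y.left (o K) = K221.FldPt.im j hj hZ J hJ := by rw [K221.FldPt.im, ← hyJ]
  obtain ⟨hJ1, hJ2⟩ := (isFinLocFreeOfDeg_zpi_iff J).1 hJ
  have hsm : RingHom.Locally (RingHom.IsStandardSmoothOfRelativeDimension 2) (algebraMap k D) := by
    have h1 : SmoothOfRelativeDimension 2 (Spec.map φ) := by
      rw [hφ]
      exact IsZariskiLocalAtSource.comp (P := @SmoothOfRelativeDimension 2) inferInstance _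
    exact (HasRingHomProperty.Spec_iff (P := @SmoothOfRelativeDimension 2)).1 h1
  have hft : Algebra.FiniteType k D := by
    have h1 : LocallyOfFiniteType (Spec.map φ) := by
      rw [hφ]
      infer_instance
    exact (HasRingHomProperty.Spec_iff (P := @LocallyOfFiniteType)).1 h1
  have hdimD : ringKrullDim D ≤ 2 := by
    rw [← PrimeSpectrum.topologicalKrullDim_eq_ringKrullDim]
    exact (hU.fromSpec.isOpenEmbedding.isInducing.topologicalKrullDim_le).trans hdim
  have hdom : IsDomain D := inferInstance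
  obtain ⟨F, hF1, hF2⟩ := AlgUp.exists_defOver hdimD hsm π hπ hker J
  rw [him]
  refine (trdegAt_im_le j hj hZ J hJ F hF1).trans (hF2.trans ?_)
  rw [hJ2]

end K536.Upper
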